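import Mathlib
import Groth.Prelude.Def_C1
import Groth.Agent.CycDivLib.Ord
import Groth.Agent.CycPushLib.Closed
import Groth.Agent.TwistLib.PullGen
import Groth.Agent.AmpleLib.Gen
import Groth.Agent.CycLimLib.Dim

/-!
# Divisors of rational sections of invertible modules, computed in a frame
-/

set_option autoImplicit false
set_option linter.style.haveILetI false
set_option linter.unusedSectionVars false

universe u

open AlgebraicGeometry CategoryTheory IsLocalRing Opposite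

noncomputable section

namespace CycC1Lib

variable {X : Scheme.{u}} {L : X.Modules}

/-- The class of a germ in the fibre. -/
abbrev fib (L : X.Modules) {ξ : X} (v : L.presheaf.stalk ξ) : Cyc.secFibre L ξ := Submodule.Quotient.mk v

theorem stalkSpecializes_smul (M : X.Modules) {y x : X} (h : y ⤳ x) (a : X.presheaf.stalk x)
    (v : M.presheaf.stalk x) :
    M.presheaf.stalkSpecializes h (a • v) =
      ((X.presheaf.stalkSpecializes h).hom a : X.presheaf.stalk y) •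
        ((M.presheaf.stalkSpecializes h).hom v : M.presheaf.stalk y) := by
  obtain ⟨Ua, ha, r, rfl⟩ := TopCat.Presheaf.exists_germ_eq X.presheaf (x := x) a
  obtain ⟨Uv, hv, m, rfl⟩ := TopCat.Presheaf.exists_germ_eq M.presheaf (x := x) v
  rw [← TopCat.Presheaf.germ_res_apply X.presheaf (homOfLE (inf_le_left : Ua ⊓ Uv ≤ Ua)) x ⟨ha, hv⟩,
    ← TopCat.Presheaf.germ_res_apply M.presheaf (homOfLE (inf_le_right : Ua ⊓ Uv ≤ Uv)) x ⟨ha, hv⟩,
    ← AmpleLib.germ_smul, TopCat.Presheaf.germ_stalkSpecializes_apply,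
    TopCat.Presheaf.germ_stalkSpecializes_apply, TopCat.Presheaf.germ_stalkSpecializes_apply,
    AmpleLib.germ_smul]

section Frame

variable {U : X.Opens} {e : Γ(L, U)} {ξ : X} {hξ : ξ ∈ U}

theorem exists_coord (hgen : AmpleLib.GenAt L e hξ) (s : Cyc.secFibre L ξ) :
    ∃ φ : X.presheaf.stalk ξ, s = φ • fib L (L.presheaf.germ U ξ hξ e) := by
  obtain ⟨v, rfl⟩ := Submodule.Quotient.mk_surjective _ s
  obtain ⟨φ, hφ⟩ := hgen.2 v
  exact ⟨φ, ((Submodule.Quotient.mk_smul _ φ _).symm.trans (congrArg _ hφ)).symm⟩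

theorem fib_smul_eq_zero_iff (hgen : AmpleLib.GenAt L e hξ) (φ : X.presheaf.stalk ξ) :
    φ • fib L (L.presheaf.germ U ξ hξ e) = 0 ↔ X.residue ξ φ = 0 := by
  have htop : (⊤ : Submodule (X.presheaf.stalk ξ) (L.presheaf.stalk ξ)) =
      Submodule.span (X.presheaf.stalk ξ) {L.presheaf.germ U ξ hξ e} :=
    (eq_top_iff.2 fun v _ => by
      obtain ⟨c, rfl⟩ := hgen.2 v
      exact Submodule.smul_mem _ c (Submodule.mem_span_singleton_self _)).symm
  rw [fib, ← Submodule.Quotient.mk_smul, Submodule.Quotient.mk_eq_zero, htop, Submodule.mem_smul_span_singleton]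
  constructor
  · rintro ⟨y, hy, hye⟩
    exact (residue_eq_zero_iff φ).2 (hgen.1 hye ▸ hy)
  · exact fun h => ⟨φ, (residue_eq_zero_iff φ).1 h, rfl⟩

theorem residue_coord_unique (hgen : AmpleLib.GenAt L e hξ) {φ ψ : X.presheaf.stalk ξ}
    (h : φ • fib L (L.presheaf.germ U ξ hξ e) = ψ • fib L (L.presheaf.germ U ξ hξ e)) :
    X.residue ξ φ = X.residue ξ ψ := by
  rw [← sub_eq_zero, ← map_sub, ← fib_smul_eq_zero_iff hgen, sub_smul, h, sub_self]

theorem residue_coord_ne_zero (hgen : AmpleLib.GenAt L e hξ) {φ : X.presheaf.stalk ξ} {s : Cyc.secFibre L ξ}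
    (hs : s ≠ 0) (h : s = φ • fib L (L.presheaf.germ U ξ hξ e)) : X.residue ξ φ ≠ 0 :=
  fun h0 => hs (h.trans ((fib_smul_eq_zero_iff hgen φ).2 h0))

end Frame

theorem ordAt_unit_mul {δ : X → ℤ} (hX : Cyc.IsSetup X δ) {x ξ : X} (h : ξ ⤳ x) (hd : δ x + 1 = δ ξ)
    {u : X.presheaf.stalk x} (hu : IsUnit u) (z : X.residueField ξ) :
    Cyc.ordAt x ξ h (z * Cyc.specMap x ξ h u) = Cyc.ordAt x ξ h z := by
  haveI := hX.1
  have hd' := CycPushLib.dimBetween_le_one_of_drop hX h hd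
  have hne : Cyc.specMap x ξ h u ≠ 0 := (hu.map (Cyc.specMap x ξ h)).ne_zero
  by_cases hz : z = 0
  · rw [hz, zero_mul]
  rw [CycDivLib.ordAt_mul h hd' hz hne, CycDivLib.ordAt_specMap h hd' hne]
  haveI : Subsingleton (X.presheaf.stalk x ⧸ (CycDivLib.primeOf h).asIdeal ⊔ Ideal.span {u}) :=
    Ideal.Quotient.subsingleton_iff.2 (by rw [Ideal.span_singleton_eq_top.2 hu, sup_top_eq])
  rw [Module.length_eq_zero]
  simp

/-- The divisor of a rational section is the divisor of its coordinate in a frame. -/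
theorem secDivFun_eq_divFun {δ : X → ℤ} (hX : Cyc.IsSetup X δ) {U : X.Opens} {e : Γ(L, U)}
    (he : AmpleLib.GenOn L e) {x ξ : X} (hx : x ∈ U) (hξ : ξ ∈ U) {φ : X.presheaf.stalk ξ}
    {s : Cyc.secFibre L ξ} (hs : s = φ • fib L (L.presheaf.germ U ξ hξ e)) :
    Cyc.secDivFun δ L ξ s x = Cyc.divFun δ ξ (X.residue ξ φ) x := by
  classical
  rw [Cyc.secDivFun, Cyc.divFun]
  by_cases h : ξ ⤳ x ∧ δ x + 1 = δ ξ
  swap
  · rw [dif_neg h, dif_neg h]
  rw [dif_pos h, dif_pos h]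
  let ex : L.presheaf.stalk x := L.presheaf.germ U x hx e
  have hgx := he.genAt hx
  have ht : ∃ t : L.presheaf.stalk x, Submodule.span (X.presheaf.stalk x) {t} = ⊤ :=
    ⟨ex, eq_top_iff.2 fun v _ => by
      obtain ⟨c, rfl⟩ := hgx.2 v
      exact Submodule.smul_mem _ c (Submodule.mem_span_singleton_self _)⟩
  rw [Cyc.secOrdAt, dif_pos ht]
  obtain ⟨b, hb⟩ := hgx.2 (Classical.choose ht)
  obtain ⟨a, ha⟩ := Submodule.mem_span_singleton.1
    ((Classical.choose_spec ht).ge (Submodule.mem_top (x := ex)))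
  have hbu : IsUnit b := IsUnit.of_mul_eq_one a (hgx.1 (by
    show (b * a) • ex = (1 : X.presheaf.stalk x) • ex
    rw [mul_comm b a, mul_smul, one_smul]
    exact (congrArg (a • ·) hb).trans ha))
  have hsp : L.presheaf.stalkSpecializes h.1 (Classical.choose ht) =
      X.presheaf.stalkSpecializes h.1 b • L.presheaf.germ U ξ hξ e := by
    rw [← hb, stalkSpecializes_smul, TopCat.Presheaf.germ_stalkSpecializes_apply]
  obtain ⟨c, hc⟩ := (hbu.map (X.presheaf.stalkSpecializes h.1).hom).exists_left_inv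
  have hφ : ∃ ψ : X.presheaf.stalk ξ,
      s = ψ • (Submodule.Quotient.mk ((L.presheaf.stalkSpecializes h.1) (Classical.choose ht)) :
        Cyc.secFibre L ξ) := ⟨φ * c, by
    rw [hsp, Submodule.Quotient.mk_smul, smul_smul, mul_assoc, hc, mul_one]
    exact hs⟩
  rw [dif_pos hφ]
  have hspec := Classical.choose_spec hφ
  have e1 : X.residue ξ φ = X.residue ξ (Classical.choose hφ) * Cyc.specMap x ξ h.1 b := by
    rw [show Cyc.specMap x ξ h.1 b = X.residue ξ (X.presheaf.stalkSpecializes h.1 b) from rfl, ← map_mul]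
    refine residue_coord_unique (he.genAt hξ) ?_
    rw [← hs, mul_smul, fib, ← Submodule.Quotient.mk_smul _ (X.presheaf.stalkSpecializes h.1 b), ← hsp]
    exact hspec
  rw [e1, ordAt_unit_mul hX h.1 h.2 hbu]

theorem secDivFun_eq_zero_of_not {δ : X → ℤ} {ξ x : X} (h : ¬ (ξ ⤳ x ∧ δ x + 1 = δ ξ)) (s : Cyc.secFibre L ξ) :
    Cyc.secDivFun δ L ξ s x = 0 := dif_neg h

variable (hL : PicF.IsInvertible L)

include hL in
theorem secDivFun_smul {δ : X → ℤ} (hX : Cyc.IsSetup X δ) {ξ : X} {ψ : X.presheaf.stalk ξ}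
    (hψ : X.residue ξ ψ ≠ 0) {s : Cyc.secFibre L ξ} (hs : s ≠ 0) (x : X) :
    Cyc.secDivFun δ L ξ (ψ • s) x = Cyc.divFun δ ξ (X.residue ξ ψ) x + Cyc.secDivFun δ L ξ s x := by
  by_cases h : ξ ⤳ x ∧ δ x + 1 = δ ξ
  swap
  · rw [secDivFun_eq_zero_of_not h, secDivFun_eq_zero_of_not h, Cyc.divFun, dif_neg h, add_zero]
  obtain ⟨U, e, hxU, he⟩ := TwistLib.exists_genOn hL x
  have hξU : ξ ∈ U := h.1.mem_open U.isOpen hxU
  obtain ⟨φ, hφ⟩ := exists_coord (he.genAt hξU) s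
  have h2 : ψ • s = (ψ * φ) • fib L (L.presheaf.germ U ξ hξU e) := by rw [hφ, smul_smul]
  rw [secDivFun_eq_divFun hX he hxU hξU h2, secDivFun_eq_divFun hX he hxU hξU hφ, map_mul]
  simp only [Cyc.divFun, dif_pos h]
  haveI := hX.1
  exact CycDivLib.ordAt_mul h.1 (CycPushLib.dimBetween_le_one_of_drop hX h.1 h.2)
    hψ (residue_coord_ne_zero (he.genAt hξU) hs hφ)

include hL in
theorem exists_smul_eq {ξ : X} {s s' : Cyc.secFibre L ξ} (hs : s ≠ 0) (hs' : s' ≠ 0) :
    ∃ ψ : X.presheaf.stalk ξ, X.residue ξ ψ ≠ 0 ∧ s' = ψ • s := by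
  obtain ⟨U, e, hξU, he⟩ := TwistLib.exists_genOn hL ξ
  obtain ⟨φ, hφ⟩ := exists_coord (he.genAt hξU) s
  obtain ⟨φ', hφ'⟩ := exists_coord (he.genAt hξU) s'
  have h0 := residue_coord_ne_zero (he.genAt hξU) hs hφ
  have hu : IsUnit φ := by
    by_contra hu
    exact h0 ((residue_eq_zero_iff _).2 ((mem_maximalIdeal _).2 hu))
  obtain ⟨c, hc⟩ := hu.exists_left_inv
  refine ⟨φ' * c, ?_, ?_⟩
  · rw [map_mul]
    refine mul_ne_zero (residue_coord_ne_zero (he.genAt hξU) hs' hφ') ?_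
    exact ((IsUnit.of_mul_eq_one φ hc).map (X.residue ξ).hom).ne_zero
  · rw [hφ, smul_smul, mul_assoc, hc, mul_one]
    exact hφ'

include hL in
/-- Two nonzero rational sections differ by a principal divisor. -/
theorem exists_secDivFun_eq_add {δ : X → ℤ} (hX : Cyc.IsSetup X δ) {ξ : X} {s s' : Cyc.secFibre L ξ}
    (hs : s ≠ 0) (hs' : s' ≠ 0) :
    ∃ g : X.residueField ξ, g ≠ 0 ∧
      ∀ x, Cyc.secDivFun δ L ξ s' x = Cyc.divFun δ ξ g x + Cyc.secDivFun δ L ξ s x := by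
  obtain ⟨ψ, hψ, rfl⟩ := exists_smul_eq hL hs hs'
  exact ⟨_, hψ, secDivFun_smul hL hX hψ hs⟩

end CycC1Lib

end
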