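import Mathlib
import Groth.Prelude.Def_C1
import Groth.Agent.CycC1Lib.Sec

/-!
# Caps with first Chern classes up to rational equivalence
-/

set_option autoImplicit false
set_option linter.style.haveILetI false
set_option linter.unusedSectionVars false

universe u

open AlgebraicGeometry CategoryTheory IsLocalRing Opposite

noncomputable section

namespace CycC1Lib

variable {X : Scheme.{u}}

theorem finite_support_inter_affine (D : AlgebraicCycle X ℤ) {V : X.Opens} (hV : IsAffineOpen V) :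
    {ξ : X | ξ ∈ V ∧ D ξ ≠ 0}.Finite :=
  LocallyFiniteSupport.finite_inter_support_of_isCompact (Function.locallyFinsupp.locallyFiniteSupport D) hV.isCompact

theorem exists_finset_generizations (D : AlgebraicCycle X ℤ) (x : X) :
    ∃ S : Finset X, ∀ ξ, D ξ ≠ 0 → ξ ⤳ x → ξ ∈ S := by
  obtain ⟨V, hV, hxV, -⟩ := exists_isAffineOpen_mem_and_subset (X := X) (x := x) (U := ⊤) trivial
  exact ⟨(finite_support_inter_affine D hV).toFinset, fun ξ h h' =>
    (finite_support_inter_affine D hV).mem_toFinset.2 ⟨h'.mem_open V.isOpen hxV, h⟩⟩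

variable {δ : X → ℤ}

theorem c1CapFun_eq_sum {L : X.Modules} {α : X → ℤ} {s : (ξ : X) → Cyc.secFibre L ξ} {x : X} {S : Finset X}
    (hS : ∀ ξ, α ξ ≠ 0 → ξ ⤳ x → ξ ∈ S) :
    Cyc.c1CapFun δ L α s x = ∑ ξ ∈ S, α ξ * Cyc.secDivFun δ L ξ (s ξ) x := by
  refine finsum_eq_sum_of_support_subset _ fun ξ hξ => ?_
  rw [Finset.mem_coe]
  refine hS ξ (left_ne_zero_of_mul hξ) ?_
  by_contra h
  exact hξ (by show _ * _ = 0; rw [secDivFun_eq_zero_of_not fun h' => h h'.1, mul_zero])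

theorem divFun_zpow (hX : Cyc.IsSetup X δ) {ξ : X} {g : X.residueField ξ} (hg : g ≠ 0) (m : ℤ) (x : X) :
    Cyc.divFun δ ξ (g ^ m) x = m * Cyc.divFun δ ξ g x := by
  simp only [Cyc.divFun]
  split_ifs with h
  swap
  · rw [mul_zero]
  haveI := hX.1
  haveI : Ring.KrullDimLE 1 (Cyc.LocQuot x ξ h.1) := Ring.krullDimLE_iff.2
    ((CycDivLib.dim_locQuot h.1).le.trans (CycPushLib.dimBetween_le_one_of_drop hX h.1 h.2))
  simp only [Cyc.ordAt]
  rcases m with n | n
  · rw [Int.ofNat_eq_natCast, zpow_natCast, TameLib.ordFrac_pow hg]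
  · rw [zpow_negSucc, TameLib.ordFrac_inv (pow_ne_zero _ hg), TameLib.ordFrac_pow hg, Int.negSucc_eq]
    push_cast
    ring

theorem divFun_inv (hX : Cyc.IsSetup X δ) {ξ : X} {g : X.residueField ξ} (hg : g ≠ 0) (x : X) :
    Cyc.divFun δ ξ g⁻¹ x = -Cyc.divFun δ ξ g x := by
  rw [← zpow_neg_one, divFun_zpow hX hg]
  ring

theorem divFun_eq_zero_of_not_specializes {ξ x : X} (h : ¬ ξ ⤳ x) (g : X.residueField ξ) :
    Cyc.divFun δ ξ g x = 0 := dif_neg fun h' => h h'.1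

/-- A combination of principal divisors with the coefficients of a cycle is rationally zero. -/
theorem ratEquivZero_of_weighted (hX : Cyc.IsSetup X δ) {k : ℤ} (D : AlgebraicCycle X ℤ)
    (hD : D ∈ Cyc.Zk X δ (k + 1)) (g : ∀ ξ, X.residueField ξ) (hg : ∀ ξ, g ξ ≠ 0) (γ : AlgebraicCycle X ℤ)
    (h : ∀ (x : X) (S : Finset X), (∀ ξ, D ξ ≠ 0 → ξ ⤳ x → ξ ∈ S) →
      γ x = ∑ ξ ∈ S, D ξ * Cyc.divFun δ ξ (g ξ) x) : Cyc.RatEquivZero δ k γ := by
  classical
  refine ⟨{ξ : X // D ξ ≠ 0}, fun i => i.1, fun i => g i.1 ^ D i.1,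
    fun i => not_not.1 fun hne => i.2 (hD i.1 hne), fun i => zpow_ne_zero _ (hg i.1), fun x => ?_, fun x => ?_⟩
  · obtain ⟨V, hV, hxV, -⟩ := exists_isAffineOpen_mem_and_subset (X := X) (x := x) (U := ⊤) trivial
    refine ⟨V, V.isOpen, hxV, ((finite_support_inter_affine D hV).preimage Subtype.val_injective.injOn).subset ?_⟩
    rintro i ⟨z, hz, hzV⟩
    exact ⟨(specializes_iff_mem_closure.2 hz).mem_open V.isOpen hzV, i.2⟩
  · obtain ⟨S, hS⟩ := exists_finset_generizations D x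
    rw [h x S hS, finsum_eq_sum_of_support_subset _ (s := S.subtype fun ξ => D ξ ≠ 0) fun i hi => by
      rw [Finset.mem_coe, Finset.mem_subtype]
      refine hS i.1 i.2 ?_
      by_contra hns
      exact hi (divFun_eq_zero_of_not_specializes hns _)]
    simp only [divFun_zpow hX (hg _)]
    rw [Finset.sum_subtype_eq_sum_filter (fun ξ => D ξ * Cyc.divFun δ ξ (g ξ) x), Finset.sum_filter]
    refine Finset.sum_congr rfl fun ξ _ => ?_
    split_ifs with hne
    · rfl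
    · rw [not_not.1 hne, zero_mul]

/-- Changing the rational sections changes the cap by a rational equivalence. -/
theorem ratEquiv_c1Cap (hX : Cyc.IsSetup X δ) {L : X.Modules} (hL : PicF.IsInvertible L) {k : ℤ}
    (D : AlgebraicCycle X ℤ) (hD : D ∈ Cyc.Zk X δ (k + 1)) {s s' : (ξ : X) → Cyc.secFibre L ξ}
    (hs : ∀ ξ, s ξ ≠ 0) (hs' : ∀ ξ, s' ξ ≠ 0) (γ γ' : AlgebraicCycle X ℤ)
    (hγ : ⇑γ = Cyc.c1CapFun δ L ⇑D s) (hγ' : ⇑γ' = Cyc.c1CapFun δ L ⇑D s') : Cyc.RatEquiv δ k γ γ' := by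
  choose g hg hgx using fun ξ => exists_secDivFun_eq_add hL hX (hs' ξ) (hs ξ)
  refine ratEquivZero_of_weighted hX D hD g hg _ fun x S hS => ?_
  show γ x - γ' x = _
  rw [hγ, hγ', c1CapFun_eq_sum hS, c1CapFun_eq_sum hS, ← Finset.sum_sub_distrib]
  refine Finset.sum_congr rfl fun ξ _ => ?_
  rw [hgx]
  ring

theorem fib_one_ne_zero (ξ : X) :
    fib (Coh.structureModule X)
      ((Coh.structureModule X).presheaf.germ ⊤ ξ trivial (1 : Γ(X, ⊤))) ≠ 0 := fun h => by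
  have h1 := (fib_smul_eq_zero_iff (U := ⊤) ((AmpleLib.one_genOn (X := X) ⊤).genAt (x := ξ) trivial) 1).1
    (by rw [one_smul]; exact h)
  rw [map_one] at h1
  exact one_ne_zero h1

/-- The cap with the class of the structure sheaf is rationally zero. -/
theorem c1Cap_structureModule (hX : Cyc.IsSetup X δ) {k : ℤ} (D : AlgebraicCycle X ℤ)
    (hD : D ∈ Cyc.Zk X δ (k + 1)) (s : (ξ : X) → Cyc.secFibre (Coh.structureModule X) ξ) (hs : ∀ ξ, s ξ ≠ 0)
    (γ : AlgebraicCycle X ℤ) (hγ : ⇑γ = Cyc.c1CapFun δ (Coh.structureModule X) ⇑D s) :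
    Cyc.RatEquivZero δ k γ := by
  have hgen : ∀ ξ : X, AmpleLib.GenAt (Coh.structureModule X) (1 : Γ(X, ⊤)) (show ξ ∈ (⊤ : X.Opens) from trivial) :=
    fun ξ => (AmpleLib.one_genOn (X := X) ⊤).genAt trivial
  choose φ hφ using fun ξ => exists_coord (hgen ξ) (s ξ)
  refine ratEquivZero_of_weighted hX D hD (fun ξ => X.residue ξ (φ ξ))
    (fun ξ => residue_coord_ne_zero (hgen ξ) (hs ξ) (hφ ξ)) _ fun x S hS => ?_
  rw [hγ, c1CapFun_eq_sum hS]
  exact Finset.sum_congr rfl fun ξ _ => congrArg _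
    (secDivFun_eq_divFun hX (AmpleLib.one_genOn (X := X) ⊤) trivial trivial (hφ ξ))

end CycC1Lib

end
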