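import Mathlib
import Groth.Prelude.Def_C1
import Groth.Agent.CycC1Lib.Cap
import Groth.Agent.CycDivLib.Pull

/-!
# Caps with first Chern classes and flat pullback
-/

set_option autoImplicit false
set_option linter.style.haveILetI false
set_option linter.unusedSectionVars false

universe u

open AlgebraicGeometry CategoryTheory IsLocalRing Opposite
open scoped TensorProduct

noncomputable section

namespace CycC1Lib

variable {X Y : Scheme.{u}} (f : X ⟶ Y)

/-- The generic points of the fibre over `η` in an affine open form a finite set. -/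
theorem finite_gen_inter_affine [IsLocallyNoetherian X] {V : X.Opens} (hV : IsAffineOpen V) (η : Y) :
    {ζ : X | ζ ∈ V ∧ CycLimLib.IsGen f ζ ∧ f ζ = η}.Finite := by
  classical
  haveI : IsNoetherianRing Γ(X, V) := IsLocallyNoetherian.component_noetherian ⟨V, hV⟩
  let Z : Set X := f ⁻¹' closure {η}
  let J := PrimeSpectrum.vanishingIdeal (hV.fromSpec ⁻¹' Z)
  refine Set.Finite.of_injOn (f := fun ζ => if h : ζ ∈ V then (hV.primeIdealOf ⟨ζ, h⟩).asIdeal else ⊤)
    (t := J.minimalPrimes) ?_ ?_ (Ideal.finite_minimalPrimes_of_isNoetherianRing _ J)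
  · rintro ζ ⟨hζ, hgen, hfζ⟩
    simp only [dif_pos hζ]
    have hmem : hV.primeIdealOf ⟨ζ, hζ⟩ ∈ hV.fromSpec ⁻¹' Z := by
      show f (hV.fromSpec (hV.primeIdealOf ⟨ζ, hζ⟩)) ∈ closure {η}
      rw [hV.fromSpec_primeIdealOf, hfζ]
      exact subset_closure rfl
    refine ⟨⟨(hV.primeIdealOf ⟨ζ, hζ⟩).2, (PrimeSpectrum.subset_zeroLocus_vanishingIdeal _) hmem⟩,
      fun Q hQ hle => ?_⟩
    let q : PrimeSpectrum Γ(X, V) := ⟨Q, hQ.1⟩
    have hq : q ∈ hV.fromSpec ⁻¹' Z := by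
      have : q ∈ PrimeSpectrum.zeroLocus (J : Set Γ(X, V)) := hQ.2
      rw [PrimeSpectrum.zeroLocus_vanishingIdeal_eq_closure] at this
      exact closure_minimal (Set.Subset.refl _) ((isClosed_closure.preimage f.continuous).preimage hV.fromSpec.continuous) this
    have hs : hV.fromSpec q ⤳ ζ := by
      have h := ((PrimeSpectrum.le_iff_specializes q (hV.primeIdealOf ⟨ζ, hζ⟩)).mp hle).map hV.fromSpec.continuous
      rwa [hV.fromSpec_primeIdealOf ⟨ζ, hζ⟩] at h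
    have heq : f (hV.fromSpec q) = f ζ :=
      ((hs.map f.continuous).antisymm ((specializes_of_eq hfζ).trans (specializes_iff_mem_closure.2 hq))).eq
    have hqe : q = hV.primeIdealOf ⟨ζ, hζ⟩ := hV.fromSpec.isOpenEmbedding.injective
      ((hgen _ heq hs).trans (hV.fromSpec_primeIdealOf ⟨ζ, hζ⟩).symm)
    exact (congrArg PrimeSpectrum.asIdeal hqe).ge
  · intro a ha b hb hab
    simp only [dif_pos ha.1, dif_pos hb.1] at hab
    have := congrArg hV.fromSpec.base (PrimeSpectrum.ext hab :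
      hV.primeIdealOf ⟨a, ha.1⟩ = hV.primeIdealOf ⟨b, hb.1⟩)
    simpa only [hV.fromSpec_primeIdealOf] using this

variable {δX : X → ℤ} {δY : Y → ℤ} {r : ℤ}

/-- A flat pullback of a cycle is a cycle. -/
def pullCyc (hX : Cyc.IsSetup X δX) (hgen : ∀ x, CycLimLib.IsGen f x → δX x = δY (f x) + r)
    (α : AlgebraicCycle Y ℤ) : AlgebraicCycle X ℤ where
  toFun := Cyc.pullFun f δX δY r ⇑α
  supportWithinDomain' := by simp
  supportLocallyFiniteWithinDomain' x _ := by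
    haveI := hX.1
    obtain ⟨W, hW, hxW, -⟩ := exists_isAffineOpen_mem_and_subset (X := Y) (x := f x) (U := ⊤) trivial
    obtain ⟨V, hV, hxV, hVW⟩ := exists_isAffineOpen_mem_and_subset (X := X) (x := x) (U := f ⁻¹ᵁ W) hxW
    refine ⟨V, V.isOpen.mem_nhds hxV, ((finite_support_inter_affine α hW).biUnion
      fun η _ => finite_gen_inter_affine f hV η).subset ?_⟩
    rintro z ⟨hzV, hz⟩
    simp only [Function.mem_support, Cyc.pullFun] at hz
    split_ifs at hz with h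
    · exact Set.mem_biUnion (x := f z) ⟨hVW hzV, left_ne_zero_of_mul hz⟩
        ⟨hzV, (CycDivLib.delta_le_of_gen f hX hgen z).2 h, rfl⟩
    · exact absurd rfl hz

theorem pullCyc_mem_Zk (hX : Cyc.IsSetup X δX) (hgen : ∀ x, CycLimLib.IsGen f x → δX x = δY (f x) + r)
    {k : ℤ} {α : AlgebraicCycle Y ℤ} (hα : α ∈ Cyc.Zk Y δY k) : pullCyc f hX hgen α ∈ Cyc.Zk X δX (k + r) :=
  fun x hx => by
    show Cyc.pullFun f δX δY r ⇑α x = 0
    simp only [Cyc.pullFun]
    split_ifs with hc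
    · rw [hα _ fun e => hx (by rw [hc, e]), zero_mul]
    · rfl

/-- The stalk of a module pulled back to the stalk of the pullback. -/
def puStalk (L : Y.Modules) (x : X) (v : L.presheaf.stalk (f x)) : (KFlatLib.pb f L).presheaf.stalk x :=
  letI := (f.stalkMap x).hom.toAlgebra
  ((KFlatLib.stalkPullIso f x).inv.app L).hom
    ((1 : X.presheaf.stalk x) ⊗ₜ[Y.presheaf.stalk (f x)] (v : (DerSch.stalkFunctor Y (f x)).obj L))

theorem puStalk_germ_smul (L : Y.Modules) {U : Y.Opens} (x : X) (hx : f x ∈ U) (e : Γ(L, U))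
    (c : Y.presheaf.stalk (f x)) :
    puStalk f L x (c • L.presheaf.germ U (f x) hx e) =
      f.stalkMap x c • (KFlatLib.pb f L).presheaf.germ (f ⁻¹ᵁ U) x hx (KFlatLib.puSec f e) := by
  let alg := (f.stalkMap x).hom.toAlgebra
  let M := (DerSch.stalkFunctor Y (f x)).obj L
  let g : M := L.presheaf.germ U (f x) hx e
  refine Eq.trans ?_ ((((KFlatLib.stalkPullIso f x).inv.app L).hom.map_smul (f.stalkMap x c)
    ((1 : X.presheaf.stalk x) ⊗ₜ[Y.presheaf.stalk (f x)] g)).trans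
      (congrArg (f.stalkMap x c • ·) (KFlatLib.stalkPullInv_germ f L x hx e)))
  refine congrArg ((KFlatLib.stalkPullIso f x).inv.app L).hom ?_
  show (1 : X.presheaf.stalk x) ⊗ₜ[Y.presheaf.stalk (f x)] (c • g) = _
  rw [← TensorProduct.smul_tmul]
  rfl

/-- The pullback of a rational section. -/
def pbFib (L : Y.Modules) (x : X) (v : Cyc.secFibre L (f x)) : Cyc.secFibre (KFlatLib.pb f L) x :=
  fib _ (puStalk f L x (Submodule.Quotient.mk_surjective _ v).choose)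

theorem residue_stalkMap (x : X) (φ : Y.presheaf.stalk (f x)) :
    f.residueFieldMap x (Y.residue (f x) φ) = X.residue x (f.stalkMap x φ) :=
  congrArg (fun χ : Y.presheaf.stalk (f x) ⟶ X.residueField x => χ φ) (Scheme.residue_residueFieldMap f x)

theorem pbFib_coord {L : Y.Modules} {U : Y.Opens} {e : Γ(L, U)} {x : X} (hx : f x ∈ U)
    (hgen : AmpleLib.GenAt L e hx) {φ : Y.presheaf.stalk (f x)} {v : Cyc.secFibre L (f x)}
    (hv : v = φ • fib L (L.presheaf.germ U (f x) hx e)) :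
    pbFib f L x v = f.stalkMap x φ •
      fib _ ((KFlatLib.pb f L).presheaf.germ (f ⁻¹ᵁ U) x hx (KFlatLib.puSec f e)) := by
  have hw := (Submodule.Quotient.mk_surjective _ v).choose_spec
  obtain ⟨φ', hφ'⟩ := hgen.2 (Submodule.Quotient.mk_surjective _ v).choose
  have h1 : φ' • fib L (L.presheaf.germ U (f x) hx e) = v :=
    ((Submodule.Quotient.mk_smul _ φ' _).symm.trans (congrArg _ hφ')).trans hw
  have h2 := residue_coord_unique hgen (h1.trans hv)
  unfold pbFib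
  rw [← hφ', puStalk_germ_smul]
  refine (Submodule.Quotient.mk_smul _ _ _).trans (sub_eq_zero.1 ?_)
  rw [← sub_smul, fib_smul_eq_zero_iff (TwistLib.GenAt.puSec f hgen), map_sub, ← residue_stalkMap,
    ← residue_stalkMap, h2, sub_self]

theorem pbFib_ne_zero {L : Y.Modules} (hL : PicF.IsInvertible L) {x : X} {v : Cyc.secFibre L (f x)}
    (hv : v ≠ 0) : pbFib f L x v ≠ 0 := by
  intro h
  obtain ⟨U, e, hU, he⟩ := TwistLib.exists_genOn hL (f x)
  obtain ⟨φ, h1⟩ := exists_coord (he.genAt hU) v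
  have h3 := residue_coord_ne_zero (he.genAt hU) hv h1
  have h4 := (fib_smul_eq_zero_iff (TwistLib.GenAt.puSec f (he.genAt hU)) (f.stalkMap x φ)).1
    ((pbFib_coord f hU (he.genAt hU) h1).symm.trans h)
  exact (_root_.map_ne_zero (f.residueFieldMap x).hom).2 h3 ((residue_stalkMap f x φ).trans h4)

/-- Flat pullback commutes with the cap by a first Chern class computed with pulled back sections. -/
theorem pullFun_c1Cap [Flat f] (hX : Cyc.IsSetup X δX) (hY : Cyc.IsSetup Y δY)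
    (hgen : ∀ x, CycLimLib.IsGen f x → δX x = δY (f x) + r) {L : Y.Modules} (hL : PicF.IsInvertible L)
    (α : AlgebraicCycle Y ℤ) {v : (η : Y) → Cyc.secFibre L η} (hv : ∀ η, v η ≠ 0) :
    Cyc.pullFun f δX δY r (Cyc.c1CapFun δY L ⇑α v) =
      Cyc.c1CapFun δX (KFlatLib.pb f L) (Cyc.pullFun f δX δY r ⇑α) (fun ξ => pbFib f L ξ (v (f ξ))) := by
  classical
  haveI := hX.1
  let u₀ : ∀ ξ : X, Cyc.secFibre (KFlatLib.pb f L) ξ := fun ξ => pbFib f L ξ (v (f ξ))
  let D := pullCyc f hX hgen α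
  funext x
  show _ = Cyc.c1CapFun δX (KFlatLib.pb f L) (⇑D) u₀ x
  obtain ⟨U, e, hxU, he⟩ := TwistLib.exists_genOn hL (f x)
  have he' : AmpleLib.GenOn (KFlatLib.pb f L) (W := f ⁻¹ᵁ U) (KFlatLib.puSec f e) :=
    TwistLib.genOn_of_genAt fun z hz => TwistLib.GenAt.puSec f (he.genAt hz)
  obtain ⟨S₀, hS₀⟩ := exists_finset_generizations α (f x)
  let S := S₀.filter fun η => η ⤳ f x
  have hS : ∀ η, α η ≠ 0 → η ⤳ f x → η ∈ S := fun η h h' => Finset.mem_filter.2 ⟨hS₀ η h h', h'⟩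
  have hSU : ∀ η : S, η.1 ∈ U := fun η => (Finset.mem_filter.1 η.2).2.mem_open U.isOpen hxU
  choose φ hφ using fun η : S => exists_coord (he.genAt (hSU η)) (v η.1)
  obtain ⟨T, hT⟩ := exists_finset_generizations D x
  let T' := T.filter fun ζ => ζ ⤳ x ∧ D ζ ≠ 0
  have hT' : ∀ ζ, D ζ ≠ 0 → ζ ⤳ x → ζ ∈ T' := fun ζ h h' => Finset.mem_filter.2 ⟨hT ζ h h', h', h⟩
  have hTgen : ∀ ζ ∈ T', CycLimLib.IsGen f ζ ∧ f ζ ∈ S := by
    intro ζ hζ
    obtain ⟨-, h', h⟩ := Finset.mem_filter.1 hζ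
    change Cyc.pullFun f δX δY r ⇑α ζ ≠ 0 at h
    simp only [Cyc.pullFun] at h
    split_ifs at h with h0
    · exact ⟨(CycDivLib.delta_le_of_gen f hX hgen ζ).2 h0, hS _ (left_ne_zero_of_mul h) (h'.map f.continuous)⟩
    · exact absurd rfl h
  have hpullD : Cyc.c1CapFun δX (KFlatLib.pb f L) (⇑D) u₀ x =
      ∑ ζ ∈ T', D ζ * Cyc.secDivFun δX (KFlatLib.pb f L) ζ (u₀ ζ) x := c1CapFun_eq_sum hT'
  rw [hpullD, ← Finset.sum_fiberwise_of_maps_to (g := f) fun ζ hζ => (hTgen ζ hζ).2]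
  have hlhs : Cyc.pullFun f δX δY r (Cyc.c1CapFun δY L ⇑α v) x =
      ∑ η : S, α η.1 * Cyc.pullFun f δX δY r (Cyc.divFun δY η.1 (Y.residue η.1 (φ η))) x := by
    simp only [Cyc.pullFun]
    split_ifs with h
    · rw [c1CapFun_eq_sum hS, Finset.sum_mul, ← Finset.sum_coe_sort]
      refine Finset.sum_congr rfl fun η _ => ?_
      rw [secDivFun_eq_divFun hY he hxU (hSU η) (hφ η), mul_assoc]
    · simp
  rw [hlhs, ← Finset.sum_coe_sort S]
  refine Finset.sum_congr rfl fun η _ => ?_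
  have hg0 : Y.residue η.1 (φ η) ≠ 0 := residue_coord_ne_zero (he.genAt (hSU η)) (hv _) (hφ η)
  rw [CycDivLib.pullFun_divFun_of_gen f hX hY hgen η.1 hg0 x, mul_finsum' _ _ ?fin,
    finsum_eq_sum_of_support_subset _ (s := T'.subtype fun ζ => CycLimLib.IsGen f ζ ∧ f ζ = η.1) ?sup]
  case sup =>
    intro ζ hζ
    rw [Finset.mem_coe, Finset.mem_subtype]
    have h1 := left_ne_zero_of_mul hζ
    have h2 := left_ne_zero_of_mul (right_ne_zero_of_mul hζ)
    have h3 := right_ne_zero_of_mul (right_ne_zero_of_mul hζ)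
    refine hT' ζ.1 ?_ ?_
    · show Cyc.pullFun f δX δY r ⇑α ζ.1 ≠ 0
      simp only [Cyc.pullFun]
      rw [if_pos (hgen ζ.1 ζ.2.1)]
      exact mul_ne_zero (by rw [ζ.2.2]; exact h1) h2
    · by_contra hn
      exact h3 (divFun_eq_zero_of_not_specializes hn _)
  case fin =>
    refine (finite_gen_inter_affine f
      (exists_isAffineOpen_mem_and_subset (X := X) (x := x) (U := ⊤) trivial).choose_spec.1 η.1
      |>.preimage Subtype.val_injective.injOn).subset fun ζ hζ => ?_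
    have h3 := right_ne_zero_of_mul hζ
    have hsp : ζ.1 ⤳ x := by
      by_contra hn
      exact h3 (divFun_eq_zero_of_not_specializes hn _)
    exact ⟨hsp.mem_open (TopologicalSpace.Opens.isOpen _)
      (exists_isAffineOpen_mem_and_subset (X := X) (x := x) (U := ⊤) trivial).choose_spec.2.1, ζ.2⟩
  rw [Finset.sum_bij (t := T'.filter fun ζ => f ζ = η.1) (fun ζ _ => ζ.1)
    (g := fun ζ => D ζ * Cyc.secDivFun δX (KFlatLib.pb f L) ζ (u₀ ζ) x)]
  · intro ζ hζ
    exact Finset.mem_filter.2 ⟨Finset.mem_subtype.1 hζ, ζ.2.2⟩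
  · intro a _ b _ h
    exact Subtype.ext h
  · intro ζ hζ
    obtain ⟨h1, h2⟩ := Finset.mem_filter.1 hζ
    exact ⟨⟨ζ, (hTgen ζ h1).1, h2⟩, Finset.mem_subtype.2 h1, rfl⟩
  · intro ζ hζ
    obtain ⟨-, hsp, -⟩ := Finset.mem_filter.1 (Finset.mem_subtype.1 hζ)
    obtain ⟨z, hzg, hzη⟩ := ζ
    obtain ⟨η', hη'⟩ := η
    change f z = η' at hzη
    subst hzη
    rw [secDivFun_eq_divFun hX he' (show x ∈ f ⁻¹ᵁ U from hxU) (hSU ⟨f z, hη'⟩) (pbFib_coord f (hSU ⟨f z, hη'⟩) (he.genAt _) (hφ ⟨f z, hη'⟩))]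
    have e1 : CycDivLib.gpull f (rfl : f z = f z) (Y.residue (f z) (φ ⟨f z, hη'⟩)) =
        X.residue z (f.stalkMap z (φ ⟨f z, hη'⟩)) := by
      rw [CycPushLib.gpull_rfl]
      exact congrArg (fun χ : Y.presheaf.stalk (f z) ⟶ X.residueField z => χ _) (Scheme.residue_residueFieldMap f z)
    show _ = Cyc.pullFun f δX δY r ⇑α z * _
    simp only [Cyc.pullFun]
    rw [if_pos (hgen z hzg), mul_assoc, e1]

/-- Flat pullback commutes with the cap by a first Chern class, up to rational equivalence. -/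
theorem ratEquiv_pull_c1Cap [Flat f] (hX : Cyc.IsSetup X δX) (hY : Cyc.IsSetup Y δY)
    (hgen : ∀ x, CycLimLib.IsGen f x → δX x = δY (f x) + r) {L : Y.Modules} (hL : PicF.IsInvertible L)
    {k : ℤ} (α : AlgebraicCycle Y ℤ) (hα : α ∈ Cyc.Zk Y δY k) {v : (η : Y) → Cyc.secFibre L η}
    (hv : ∀ η, v η ≠ 0) {u : (ξ : X) → Cyc.secFibre (KFlatLib.pb f L) ξ} (hu : ∀ ξ, u ξ ≠ 0)
    (hL' : PicF.IsInvertible (KFlatLib.pb f L))
    (γ₁ γ₂ : AlgebraicCycle X ℤ) (h₁ : ⇑γ₁ = Cyc.pullFun f δX δY r (Cyc.c1CapFun δY L ⇑α v))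
    (h₂ : ⇑γ₂ = Cyc.c1CapFun δX (KFlatLib.pb f L) (Cyc.pullFun f δX δY r ⇑α) u) :
    Cyc.RatEquiv δX (k + r - 1) γ₁ γ₂ := by
  refine ratEquiv_c1Cap hX hL' (pullCyc f hX hgen α) ?_ (fun ξ => pbFib_ne_zero f hL (hv (f ξ))) hu γ₁ γ₂ ?_ h₂
  · rw [sub_add_cancel]
    exact pullCyc_mem_Zk f hX hgen hα
  · rw [h₁]
    exact pullFun_c1Cap f hX hY hgen hL α hv

end CycC1Lib

end
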