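import Mathlib
import Groth.Prelude.Def_C1
import Groth.Agent.CycC1Lib.Pull
import Groth.Agent.CycPushLib.Proper

/-!
# Caps with first Chern classes and proper pushforward
-/

set_option autoImplicit false
set_option linter.style.haveILetI false
set_option linter.unusedSectionVars false

universe u

open AlgebraicGeometry CategoryTheory IsLocalRing Opposite

noncomputable section

namespace CycC1Lib

variable {X Y : Scheme.{u}} {δ : X → ℤ}

/-- A cap with a first Chern class is a cycle. -/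
def capCyc (hX : Cyc.IsSetup X δ) {L : X.Modules} (hL : PicF.IsInvertible L) (α : AlgebraicCycle X ℤ)
    {s : (ξ : X) → Cyc.secFibre L ξ} (hs : ∀ ξ, s ξ ≠ 0) : AlgebraicCycle X ℤ where
  toFun := Cyc.c1CapFun δ L ⇑α s
  supportWithinDomain' := by simp
  supportLocallyFiniteWithinDomain' x _ := by
    classical
    obtain ⟨U, e, hxU, he⟩ := TwistLib.exists_genOn hL x
    obtain ⟨V, hV, hxV, hVU⟩ := exists_isAffineOpen_mem_and_subset (X := X) (x := x) (U := U) hxU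
    let A := (finite_support_inter_affine α hV).toFinset
    choose φ hφ using fun ξ : A => exists_coord (he.genAt
      (hVU ((finite_support_inter_affine α hV).mem_toFinset.1 ξ.2).1)) (s ξ.1)
    refine ⟨V, V.isOpen.mem_nhds hxV, ((Set.finite_univ (α := A)).biUnion fun ξ _ =>
      CycPushLib.finite_divFun_support (δ := δ) hX ξ.1 (residue_coord_ne_zero (he.genAt _) (hs ξ.1) (hφ ξ))
        hV).subset ?_⟩
    rintro z ⟨hzV, hz⟩
    obtain ⟨ξ, hξ⟩ := exists_ne_zero_of_finsum_mem_ne_zero (s := Set.univ)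
      (f := fun ξ => α ξ * Cyc.secDivFun δ L ξ (s ξ) z) (by rw [finsum_mem_univ]; exact hz) |>.imp fun _ h => h.2
    have hsp : ξ ⤳ z := by
      by_contra hn
      exact hξ (by rw [secDivFun_eq_zero_of_not fun h => hn h.1, mul_zero])
    have hξA : ξ ∈ A := (finite_support_inter_affine α hV).mem_toFinset.2
      ⟨hsp.mem_open V.isOpen hzV, left_ne_zero_of_mul hξ⟩
    refine Set.mem_biUnion (x := (⟨ξ, hξA⟩ : A)) trivial ⟨hzV, ?_⟩
    have h := right_ne_zero_of_mul hξ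
    rwa [secDivFun_eq_divFun hX he (hVU hzV) _ (hφ ⟨ξ, hξA⟩)] at h

theorem normGen_residueFieldMap (p : X ⟶ Y) (ξ : X) (g : Y.residueField (p ξ)) :
    Cyc.normGen p ξ (p.residueFieldMap ξ g) = g ^ p.residueDegree ξ := by
  letI := (p.residueFieldMap ξ).hom.toAlgebra
  exact Algebra.norm_algebraMap g

variable {δX : X → ℤ} {δY : Y → ℤ}

/-- Proper pushforward commutes with the cap by a first Chern class computed with pulled back sections. -/
theorem map_c1Cap (hX : Cyc.IsSetup X δX) (hY : Cyc.IsSetup Y δY) (p : X ⟶ Y) [IsProper p]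
    (hδ : Cyc.DeltaCompat p δX δY) {L : Y.Modules} (hL : PicF.IsInvertible L)
    (α : AlgebraicCycle X ℤ) {v : (η : Y) → Cyc.secFibre L η} (hv : ∀ η, v η ≠ 0)
    (γ₀ : AlgebraicCycle X ℤ)
    (hγ₀' : ⇑γ₀ = Cyc.c1CapFun δX (KFlatLib.pb p L) ⇑α (fun ξ => pbFib p L ξ (v (p ξ)))) (y : Y) :
    AlgebraicCycle.map p δX δY γ₀ y = Cyc.c1CapFun δY L ⇑(AlgebraicCycle.map p δX δY α) v y := by
  classical
  haveI := hX.1
  haveI := hY.1
  let u₀ : ∀ ξ : X, Cyc.secFibre (KFlatLib.pb p L) ξ := fun ξ => pbFib p L ξ (v (p ξ))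
  obtain ⟨U, e, hyU, he⟩ := TwistLib.exists_genOn hL y
  obtain ⟨V, hV, hyV, hVU⟩ := exists_isAffineOpen_mem_and_subset (X := Y) (x := y) (U := U) hyU
  have he' : AmpleLib.GenOn (KFlatLib.pb p L) (W := p ⁻¹ᵁ U) (KFlatLib.puSec p e) :=
    TwistLib.genOn_of_genAt fun z hz => TwistLib.GenAt.puSec p (he.genAt hz)
  let K : Set X := p ⁻¹' (V : Set Y)
  have hK : IsCompact K := QuasiCompact.isCompact_preimage (f := p) _ V.isOpen hV.isCompact
  have hfin : ∀ D : AlgebraicCycle X ℤ, (K ∩ Function.support D).Finite := fun D =>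
    LocallyFiniteSupport.finite_inter_support_of_isCompact (Function.locallyFinsupp.locallyFiniteSupport D) hK
  let S := (hfin α).toFinset
  have hS : ∀ ξ, ξ ∈ S ↔ p ξ ∈ V ∧ α ξ ≠ 0 := fun ξ => (hfin α).mem_toFinset
  choose φ hφ using fun η : {η : Y // η ∈ U} => exists_coord (he.genAt η.2) (v η.1)
  let g : ∀ ξ : X, p ξ ∈ U → Y.residueField (p ξ) := fun ξ h => Y.residue (p ξ) (φ ⟨p ξ, h⟩)
  have hSU : ∀ ξ : S, p ξ.1 ∈ U := fun ξ => hVU ((hS ξ.1).1 ξ.2).1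
  have hg0 : ∀ ξ : S, g ξ.1 (hSU ξ) ≠ 0 := fun ξ =>
    residue_coord_ne_zero (he.genAt (hSU ξ)) (hv _) (hφ ⟨_, hSU ξ⟩)
  have hf0 : ∀ ξ : S, p.residueFieldMap ξ.1 (g ξ.1 (hSU ξ)) ≠ 0 := fun ξ =>
    (_root_.map_ne_zero (p.residueFieldMap ξ.1).hom).2 (hg0 ξ)
  let d : S → X → ℤ := fun ξ => Cyc.divFun δX ξ.1 (p.residueFieldMap ξ.1 (g ξ.1 (hSU ξ)))
  let c : X → ℤ := fun x => ((AlgebraicCycle.mapCoeff p δX δY x : ℕ) : ℤ)
  have hγ₀ : ∀ x, p x ∈ V → γ₀ x = ∑ ξ : S, α ξ.1 * d ξ x := by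
    intro x hx
    rw [congrFun hγ₀' x]
    show Cyc.c1CapFun δX _ ⇑α u₀ x = _
    rw [c1CapFun_eq_sum (S := S) fun ξ h h' => (hS ξ).2 ⟨(h'.map p.continuous).mem_open V.isOpen hx, h⟩,
      ← Finset.sum_coe_sort]
    refine Finset.sum_congr rfl fun ξ _ => congrArg _ ?_
    rw [secDivFun_eq_divFun hX he' (show x ∈ p ⁻¹ᵁ U from hVU hx) (hSU ξ) (pbFib_coord p (hSU ξ) (he.genAt _) (hφ ⟨_, hSU ξ⟩)), ← residue_stalkMap]
  let T := (((Set.finite_univ (α := S)).biUnion fun ξ _ => hfin (CycPushLib.divCyc hX ξ.1 (hf0 ξ))).toFinset).filter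
    fun x => p x = y
  have hT : ∀ (D : X → ℤ), (∀ x, p x = y → D x ≠ 0 → ∃ ξ : S, d ξ x ≠ 0) →
      ∑ᶠ x ∈ p ⁻¹' {y}, D x * c x = ∑ x ∈ T, D x * c x := by
    intro D hD
    refine finsum_mem_eq_sum_of_inter_support_eq _ ?_
    ext x
    simp only [Set.mem_inter_iff, Set.mem_preimage, Set.mem_singleton_iff, Function.mem_support, T,
      Finset.coe_filter, Set.mem_setOf_eq, Set.Finite.mem_toFinset]
    refine ⟨fun hx => ⟨⟨?_, hx.1⟩, hx.2⟩, fun hx => ⟨hx.1.2, hx.2⟩⟩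
    obtain ⟨ξ, hξ⟩ := hD x hx.1 (left_ne_zero_of_mul hx.2)
    exact Set.mem_biUnion (x := ξ) trivial ⟨by show p x ∈ V; rw [hx.1]; exact hyV, hξ⟩
  show ∑ᶠ x ∈ p ⁻¹' {y}, γ₀ x * c x = _
  rw [hT _ fun x hx h => ?_, Finset.sum_congr rfl fun x hx => by
    rw [hγ₀ x (by rw [(Finset.mem_filter.1 hx).2]; exact hyV), Finset.sum_mul]]
  swap
  · rw [hγ₀ x (by rw [hx]; exact hyV)] at h
    obtain ⟨ξ, -, hξ⟩ := Finset.exists_ne_zero_of_sum_ne_zero h
    exact ⟨ξ, right_ne_zero_of_mul hξ⟩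
  rw [Finset.sum_comm]
  let S' := S.image p
  have hmap : ∀ η, η ∈ V → (AlgebraicCycle.map p δX δY α) η = ∑ ξ ∈ S.filter (fun ξ => p ξ = η), α ξ * c ξ := by
    intro η hη
    show ∑ᶠ x ∈ p ⁻¹' {η}, α x * c x = _
    refine finsum_mem_eq_sum_of_inter_support_eq _ ?_
    ext x
    simp only [Set.mem_inter_iff, Set.mem_preimage, Set.mem_singleton_iff, Function.mem_support,
      Finset.coe_filter, Set.mem_setOf_eq, hS]
    exact ⟨fun h => ⟨⟨⟨by rw [h.1]; exact hη, left_ne_zero_of_mul h.2⟩, h.1⟩, h.2⟩, fun h => ⟨h.1.2, h.2⟩⟩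
  have hS' : ∀ η, (AlgebraicCycle.map p δX δY α) η ≠ 0 → η ⤳ y → η ∈ S' := by
    intro η h hsp
    rw [hmap η (hsp.mem_open V.isOpen hyV)] at h
    obtain ⟨ξ, hξ, -⟩ := Finset.exists_ne_zero_of_sum_ne_zero h
    exact Finset.mem_image.2 ⟨ξ, (Finset.mem_filter.1 hξ).1, (Finset.mem_filter.1 hξ).2⟩
  rw [c1CapFun_eq_sum hS']
  have hrhs : ∀ η ∈ S', (AlgebraicCycle.map p δX δY α) η * Cyc.secDivFun δY L η (v η) y =
      ∑ ξ ∈ S.filter (fun ξ => p ξ = η), α ξ * c ξ * Cyc.secDivFun δY L (p ξ) (v (p ξ)) y := by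
    intro η hη
    obtain ⟨ξ₀, hξ₀, rfl⟩ := Finset.mem_image.1 hη
    rw [hmap _ ((hS ξ₀).1 hξ₀).1, Finset.sum_mul]
    refine Finset.sum_congr rfl fun ξ hξ => ?_
    rw [(Finset.mem_filter.1 hξ).2]
  rw [Finset.sum_congr rfl hrhs, Finset.sum_fiberwise_of_maps_to (t := S') fun ξ hξ => Finset.mem_image_of_mem _ hξ,
    ← Finset.sum_coe_sort S]
  refine Finset.sum_congr rfl fun ξ _ => ?_
  simp only [mul_assoc]
  rw [← Finset.mul_sum, ← hT (d ξ) fun x _ h => ⟨ξ, h⟩]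
  refine congrArg (α ξ.1 * ·) ?_
  rw [secDivFun_eq_divFun hY he hyU (hSU ξ) (hφ ⟨_, hSU ξ⟩)]
  refine (CycPushLib.pushSum_divFun hX hY p hδ ξ.1 (hf0 ξ) y).trans ?_
  rw [normGen_residueFieldMap, ← zpow_natCast, divFun_zpow hY (hg0 ξ)]
  simp only [c, AlgebraicCycle.mapCoeff]
  by_cases h : δY (p ξ.1) = δX ξ.1
  · rw [if_pos h, if_pos h.symm]
  · rw [if_neg h, if_neg (Ne.symm h), Nat.cast_zero, zero_mul]

/-- Proper pushforward commutes with the cap by a first Chern class, up to rational equivalence. -/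
theorem ratEquiv_push_c1Cap (hX : Cyc.IsSetup X δX) (hY : Cyc.IsSetup Y δY) (p : X ⟶ Y) [IsProper p]
    (hδ : Cyc.DeltaCompat p δX δY) {L : Y.Modules} (hL : PicF.IsInvertible L)
    (hL' : PicF.IsInvertible (KFlatLib.pb p L)) {k : ℤ} (α : AlgebraicCycle X ℤ)
    (hα : α ∈ Cyc.Zk X δX (k + 1)) {u : (ξ : X) → Cyc.secFibre (KFlatLib.pb p L) ξ} (hu : ∀ ξ, u ξ ≠ 0)
    {v : (η : Y) → Cyc.secFibre L η} (hv : ∀ η, v η ≠ 0)
    (γ : AlgebraicCycle X ℤ) (hγ : ⇑γ = Cyc.c1CapFun δX (KFlatLib.pb p L) ⇑α u) (γ' : AlgebraicCycle Y ℤ)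
    (hγ' : ⇑γ' = Cyc.c1CapFun δY L ⇑(AlgebraicCycle.map p δX δY α) v) :
    Cyc.RatEquiv δY k (AlgebraicCycle.map p δX δY γ) γ' := by
  have hne : ∀ ξ, pbFib p L ξ (v (p ξ)) ≠ 0 := fun ξ => pbFib_ne_zero p hL (hv (p ξ))
  let γ₀ := capCyc hX hL' α hne
  have h1 : Cyc.RatEquiv δX k γ γ₀ := ratEquiv_c1Cap hX hL' α hα hu hne γ γ₀ hγ rfl
  have heq : AlgebraicCycle.map p δX δY γ₀ = γ' :=
    Function.locallyFinsuppWithin.ext fun y => (map_c1Cap hX hY p hδ hL α hv γ₀ rfl y).trans (congrFun hγ' y).symm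
  exact heq ▸ CycPushLib.ratEquiv_map hX hY p hδ h1

end CycC1Lib

end
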