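import Mathlib
import Groth.Prelude.Def_C1
import Groth.Agent.CycC1Lib.Cap
import Groth.Agent.CycDivLib.Pull
import Groth.Agent.S1833

/-!
# The cycle of zeros of a section of an invertible module
-/

set_option autoImplicit false
set_option linter.style.haveILetI false
set_option linter.unusedSectionVars false

universe u

open AlgebraicGeometry CategoryTheory IsLocalRing Opposite
open scoped Pointwise

noncomputable section

namespace CycC1Lib

variable {X : Scheme.{u}}

/-- The cycle of zeros, computed in a frame. -/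
theorem zeroSectionFun_eq {δ : X → ℤ} {k : ℤ} {L : X.Modules} {U : X.Opens} {e : Γ(L, U)} {x : X} {hx : x ∈ U}
    (hgx : AmpleLib.GenAt L e hx) (hd : δ x = k) {s : L.presheaf.obj (Opposite.op ⊤)} {φ : X.presheaf.stalk x}
    (hφ : φ • L.presheaf.germ U x hx e = L.presheaf.germ ⊤ x trivial s) :
    Cyc.zeroSectionFun δ k L s x =
      ((Module.length (X.presheaf.stalk x) (X.presheaf.stalk x ⧸ Ideal.span {φ})).toNat : ℤ) := by
  classical
  rw [Cyc.zeroSectionFun, if_pos hd]
  have htop : ∃ t : L.presheaf.stalk x, Submodule.span (X.presheaf.stalk x) {t} = ⊤ :=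
    ⟨L.presheaf.germ U x hx e, eq_top_iff.2 fun v _ => by
      obtain ⟨c, rfl⟩ := hgx.2 v
      exact Submodule.smul_mem _ c (Submodule.mem_span_singleton_self _)⟩
  rw [dif_pos htop]
  obtain ⟨f₀, hf₀⟩ := Submodule.mem_span_singleton.1
    ((Classical.choose_spec htop).ge (Submodule.mem_top (x := L.presheaf.germ ⊤ x trivial s)))
  have hfx : ∃ f : X.presheaf.stalk x,
      L.presheaf.germ ⊤ x trivial s = f • Classical.choose htop := ⟨f₀, hf₀.symm⟩
  rw [dif_pos hfx]
  obtain ⟨b, hb⟩ := hgx.2 (Classical.choose htop)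
  obtain ⟨a, ha⟩ := Submodule.mem_span_singleton.1
    ((Classical.choose_spec htop).ge (Submodule.mem_top (x := L.presheaf.germ U x hx e)))
  have hbu : IsUnit b := IsUnit.of_mul_eq_one a (hgx.1 (by
    show (b * a) • L.presheaf.germ U x hx e = (1 : X.presheaf.stalk x) • L.presheaf.germ U x hx e
    rw [mul_comm b a, mul_smul, one_smul]
    exact (congrArg (a • ·) hb).trans ha))
  have e1 : φ = Classical.choose hfx * b := hgx.1 (by
    show φ • L.presheaf.germ U x hx e = (Classical.choose hfx * b) • L.presheaf.germ U x hx e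
    rw [hφ, mul_smul]
    exact (Classical.choose_spec hfx).trans (congrArg (Classical.choose hfx • ·) hb.symm))
  rw [e1, Ideal.span_singleton_mul_right_unit hbu]

theorem zeroSectionFun_eq_zero_of_ne {δ : X → ℤ} {k : ℤ} {L : X.Modules} {s : L.presheaf.obj (Opposite.op ⊤)} {x : X}
    (hd : δ x ≠ k) : Cyc.zeroSectionFun δ k L s x = 0 := if_neg hd

/-- The length of a quotient of a local ring of dimension one, as a sum over the branches. -/
theorem length_quot_eq_finsum {δ : X → ℤ} (hX : Cyc.IsSetup X δ) {x : X}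
    (hdrop : ∀ ξ : X, ξ ⤳ x → ξ ≠ x → δ ξ = δ x + 1) {φ : X.presheaf.stalk x}
    (hcontains : ∀ {ξ : X} (h : ξ ⤳ x), φ ∈ (CycDivLib.primeOf h).asIdeal → ξ = x)
    (hnzd : ∀ a : X.presheaf.stalk x, φ * a = 0 → a = 0) (F : X → ℤ)
    (hF : ∀ (ξ : X) (h : ξ ⤳ x), δ x + 1 = δ ξ → F ξ = Cyc.ordAt x ξ h (Cyc.specMap x ξ h φ))
    (hF0 : ∀ ξ : X, ¬ ξ ⤳ x → F ξ = 0) :
    ((Module.length (X.presheaf.stalk x) (X.presheaf.stalk x ⧸ Ideal.span {φ})).toNat : ℤ) =
      ∑ᶠ ξ : X, (if δ ξ = δ x + 1 then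
        ((Module.length (X.presheaf.stalk ξ) (X.presheaf.stalk ξ)).toNat : ℤ) else 0) * F ξ := by
  classical
  haveI := hX.1
  let R : Type u := X.presheaf.stalk x
  have hR1 : ringKrullDim R ≤ 1 := by
    obtain ⟨ξ, -, hξ, hξd⟩ := EquidimLib.exists_max_dimBetween x
    rw [← hξd]
    by_cases hne : ξ = x
    · rw [hne, EquidimLib.dimBetween_self]
      exact zero_le_one
    · exact CycPushLib.dimBetween_le_one_of_drop hX hξ ((hdrop ξ hξ hne).symm)
  let pt : PrimeSpectrum R → X := EquidimLib.stalkPt x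
  have hpt : ∀ P, pt P ⤳ x := EquidimLib.stalkPt_specializes x
  have hprime : ∀ P : PrimeSpectrum R, CycDivLib.primeOf (hpt P) = P := fun P =>
    EquidimLib.stalkPt_injective x (CycDivLib.stalkPt_primeOf (hpt P))
  have hmax : ∀ P : PrimeSpectrum R, pt P = x ↔ P.asIdeal = maximalIdeal R := fun P => by
    constructor
    · intro h
      exact congrArg PrimeSpectrum.asIdeal
        (EquidimLib.stalkPt_injective x (h.trans Scheme.fromSpecStalk_closedPoint.symm) : P = closedPoint R)
    · intro h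
      rw [show P = closedPoint R from PrimeSpectrum.ext h]
      exact Scheme.fromSpecStalk_closedPoint
  have hφP : ∀ P : PrimeSpectrum R, φ ∈ P.asIdeal → P.asIdeal = maximalIdeal R := fun P hP =>
    (hmax P).1 (hcontains (hpt P) (by rw [hprime]; exact hP))
  have h1833 := Groth.Agent.S1833.result R R φ
    ((le_of_eq (Module.supportDim_self_eq_ringKrullDim R)).trans hR1) (by
      rw [Module.supportDim, Order.krullDim_nonpos_iff_forall_isMax]
      rintro ⟨P, hP⟩ ⟨Q, hQ⟩ hle
      have hmem : ∀ P : PrimeSpectrum R, P ∈ Module.support R (R ⧸ φ • (⊤ : Submodule R R)) → φ ∈ P.asIdeal := by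
        intro P hP
        rw [Module.support_eq_zeroLocus] at hP
        refine hP ?_
        rw [SetLike.mem_coe, Module.mem_annihilator]
        intro m
        obtain ⟨m, rfl⟩ := Submodule.Quotient.mk_surjective _ m
        rw [← Submodule.Quotient.mk_smul, Submodule.Quotient.mk_eq_zero]
        exact Submodule.smul_mem_pointwise_smul m φ ⊤ trivial
      refine le_of_eq (Subtype.ext (PrimeSpectrum.ext ?_))
      show Q.asIdeal = P.asIdeal
      rw [hφP P (hmem P hP), hφP Q (hmem Q hQ)])
  have hker : LinearMap.ker (LinearMap.lsmul R R φ) = ⊥ := by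
    rw [LinearMap.ker_eq_bot']
    intro a ha
    exact hnzd a ha
  have hspanq : φ • (⊤ : Submodule R R) = Ideal.span {φ} := by
    rw [← Submodule.ideal_span_singleton_smul, smul_eq_mul, Ideal.mul_top]
  rw [hker, Module.length_bot, zero_add, (Submodule.quotEquivOfEq _ _ hspanq).length_eq] at h1833
  -- the finite set of non-maximal primes
  have hfin : {P : PrimeSpectrum R | P.asIdeal ≠ maximalIdeal R}.Finite := by
    refine ((minimalPrimes.finite_of_isNoetherianRing R).preimage
      (f := PrimeSpectrum.asIdeal) (fun a _ b _ h => PrimeSpectrum.ext h)).subset fun P hP => ?_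
    haveI : Ring.KrullDimLE 1 R := Ring.krullDimLE_iff.2 hR1
    exact (Ring.krullDimLE_one_iff.1 inferInstance P.asIdeal P.2).resolve_right fun h =>
      hP (IsLocalRing.eq_maximalIdeal h)
  let T := hfin.toFinset
  rw [finsum_cond_eq_sum_of_cond_iff (t := T) _ (fun {P} _ => by
    rw [Set.Finite.mem_toFinset]
    exact ⟨fun h => h.2, fun h => ⟨Module.mem_support_iff_of_finite.2 ((Module.annihilator_eq_bot.2 inferInstance).trans_le bot_le), h⟩⟩)] at h1833
  have hne : ∀ P ∈ T, pt P ≠ x := fun P hP h => hfin.mem_toFinset.1 hP ((hmax P).1 h)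
  have hterm : ∀ P ∈ T, Ring.ord (R ⧸ P.asIdeal) (Ideal.Quotient.mk P.asIdeal φ) ≠ ⊤ ∧
      Module.length (Localization.AtPrime P.asIdeal) (LocalizedModule P.asIdeal.primeCompl R) =
        Module.length (X.presheaf.stalk (pt P)) (X.presheaf.stalk (pt P)) ∧
      Module.length (X.presheaf.stalk (pt P)) (X.presheaf.stalk (pt P)) ≠ ⊤ := by
    intro P hP
    have hmin : P.asIdeal ∈ minimalPrimes R := by
      haveI : Ring.KrullDimLE 1 R := Ring.krullDimLE_iff.2 hR1
      exact (Ring.krullDimLE_one_iff.1 inferInstance P.asIdeal P.2).resolve_right fun h =>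
        hfin.mem_toFinset.1 hP (IsLocalRing.eq_maximalIdeal h)
    letI := (X.presheaf.stalkSpecializes (hpt P)).hom.toAlgebra
    haveI : IsLocalization.AtPrime (X.presheaf.stalk (pt P)) P.asIdeal := by
      have h := CycDivLib.isLocalization_stalkSpecializes (hpt P)
      rwa [hprime] at h
    refine ⟨?_, ?_, ?_⟩
    · haveI : Ring.KrullDimLE 1 (R ⧸ P.asIdeal) :=
        Ring.krullDimLE_iff.2 ((ringKrullDim_le_of_surjective _ Ideal.Quotient.mk_surjective).trans hR1)
      refine Ring.ord_ne_top (mem_nonZeroDivisors_of_ne_zero fun h => hfin.mem_toFinset.1 hP ?_)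
      exact hφP P (Ideal.Quotient.eq_zero_iff_mem.1 h)
    · let eR : (R ⧸ (⊥ : Ideal R)) ≃ₗ[R] R := Submodule.quotEquivOfEqBot ⊥ rfl
      let eS : (X.presheaf.stalk (pt P) ⧸ (⊥ : Ideal (X.presheaf.stalk (pt P)))) ≃ₗ[X.presheaf.stalk (pt P)]
          X.presheaf.stalk (pt P) := Submodule.quotEquivOfEqBot ⊥ rfl
      have h := CycDivLib.length_localized_quotient P.asIdeal (X.presheaf.stalk (pt P)) (⊥ : Ideal R)
      rw [Ideal.map_bot, eS.length_eq] at h
      rw [← h]
      exact (IsLocalizedModule.mapEquiv P.asIdeal.primeCompl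
        (LocalizedModule.mkLinearMap P.asIdeal.primeCompl (R ⧸ (⊥ : Ideal R)))
        (LocalizedModule.mkLinearMap P.asIdeal.primeCompl R) (Localization.AtPrime P.asIdeal) eR).length_eq.symm
    · haveI : Ring.KrullDimLE 0 (X.presheaf.stalk (pt P)) := Ring.krullDimLE_zero_iff.2 fun Q hQ => by
        have : (IsLocalization.AtPrime.orderIsoOfPrime (X.presheaf.stalk (pt P)) P.asIdeal ⟨Q, hQ⟩).1 = P.asIdeal := by
          obtain ⟨hp, hle⟩ := (IsLocalization.AtPrime.orderIsoOfPrime (X.presheaf.stalk (pt P)) P.asIdeal ⟨Q, hQ⟩).2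
          exact le_antisymm hle (hmin.2 ⟨hp, bot_le⟩ hle)
        have h2 : (IsLocalization.AtPrime.orderIsoOfPrime (X.presheaf.stalk (pt P)) P.asIdeal
            ⟨maximalIdeal _, (maximalIdeal.isMaximal _).isPrime⟩).1 = P.asIdeal :=
          IsLocalization.AtPrime.comap_maximalIdeal _ P.asIdeal
        have h3 := (IsLocalization.AtPrime.orderIsoOfPrime (X.presheaf.stalk (pt P)) P.asIdeal).injective
          (Subtype.ext (this.trans h2.symm))
        rw [show Q = maximalIdeal _ from congrArg Subtype.val h3]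
        exact maximalIdeal.isMaximal _
      haveI : IsArtinianRing (X.presheaf.stalk (pt P)) := isArtinianRing_iff_isNoetherianRing_krullDimLE_zero.2 ⟨inferInstance, inferInstance⟩
      exact Module.length_ne_top
  rw [finsum_eq_sum_of_support_subset _ (s := T.image pt) fun ξ hξ => ?_,
    Finset.sum_image fun a _ b _ h => EquidimLib.stalkPt_injective x h, h1833]
  swap
  · have hd' := left_ne_zero_of_mul hξ
    have hsp : ξ ⤳ x := by
      by_contra h
      exact right_ne_zero_of_mul hξ (hF0 ξ h)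
    split_ifs at hd' with h'
    swap
    · exact absurd rfl hd'
    rw [Finset.mem_coe, Finset.mem_image]
    refine ⟨CycDivLib.primeOf hsp, hfin.mem_toFinset.2 fun hP => ?_, CycDivLib.stalkPt_primeOf hsp⟩
    have := (hmax _).2 hP
    rw [show pt (CycDivLib.primeOf hsp) = ξ from CycDivLib.stalkPt_primeOf hsp] at this
    subst this
    omega
  refine (CycDivLib.toNat_sum T _ fun P hP => WithTop.mul_ne_top (hterm P hP).1
    ((hterm P hP).2.1.trans_ne (hterm P hP).2.2)).trans (Finset.sum_congr rfl fun P hP => ?_)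
  have hd' : δ (pt P) = δ x + 1 := hdrop _ (hpt P) (hne P hP)
  refine ((congrArg Nat.cast (ENat.toNat_mul _ _)).trans (Nat.cast_mul _ _)).trans ?_
  rw [if_pos hd', hF _ (hpt P) hd'.symm, (hterm P hP).2.1, mul_comm]
  refine congrArg₂ (· * ·) rfl ?_
  have hnz : Cyc.specMap x (pt P) (hpt P) φ ≠ 0 := fun h => hne P hP (hcontains (hpt P) ((CycDivLib.specMap_eq_zero_iff _ _).1 h))
  rw [CycDivLib.ordAt_specMap (hpt P) (CycPushLib.dimBetween_le_one_of_drop hX (hpt P) hd'.symm) hnz, hprime,
    CycDivLib.length_quot_quot]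

/-- The cycle of zeros of a regular section is the cap with the fundamental cycle. -/
theorem zeroSectionFun_eq_c1Cap {δ : X → ℤ} (hX : Cyc.IsSetup X δ) {L : X.Modules} (hL : PicF.IsInvertible L)
    (k : ℤ) (hdim : ∀ y : X, δ y ≤ k + 1) (s : L.presheaf.obj (Opposite.op ⊤))
    (hZ : ∀ y : X, (L.presheaf.germ ⊤ y trivial) s ∈
      IsLocalRing.maximalIdeal (X.presheaf.stalk y) • (⊤ : Submodule (X.presheaf.stalk y) (L.presheaf.stalk y)) → δ y ≤ k)
    (hreg : ∀ y : X, δ y = k → Function.Injective (fun a : X.presheaf.stalk y => a • (L.presheaf.germ ⊤ y trivial) s)) :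
    Cyc.zeroSectionFun δ k L s = Cyc.c1CapFun δ L (Cyc.subschemeFun δ (k + 1) (𝟙 X))
      (fun ξ => Submodule.Quotient.mk ((L.presheaf.germ ⊤ ξ trivial) s)) := by
  classical
  haveI := hX.1
  funext x
  have hsub : ∀ ξ, Cyc.subschemeFun δ (k + 1) (𝟙 X) ξ =
      if δ ξ = k + 1 then ((Module.length (X.presheaf.stalk ξ) (X.presheaf.stalk ξ)).toNat : ℤ) else 0 := by
    intro ξ
    simp only [Cyc.subschemeFun]
    refine if_congr Iff.rfl ?_ rfl
    exact finsum_cond_eq_left (f := fun z : X => ((Module.length (X.presheaf.stalk z) (X.presheaf.stalk z)).toNat : ℤ))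
  by_cases hd : δ x = k
  swap
  · rw [zeroSectionFun_eq_zero_of_ne hd]
    refine (finsum_eq_zero_of_forall_eq_zero fun ξ => ?_).symm
    rw [hsub]
    split_ifs with h
    · rw [secDivFun_eq_zero_of_not fun h' => hd (by omega), mul_zero]
    · rw [zero_mul]
  obtain ⟨U, e, hxU, he⟩ := TwistLib.exists_genOn hL x
  obtain ⟨φ, hφ⟩ := (he.genAt hxU).2 (L.presheaf.germ ⊤ x trivial s)
  dsimp only at hφ
  rw [zeroSectionFun_eq (he.genAt hxU) hd hφ]
  -- coordinates at generizations
  have hcoord : ∀ {ξ : X} (h : ξ ⤳ x),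
      L.presheaf.germ ⊤ ξ trivial s = X.presheaf.stalkSpecializes h φ • L.presheaf.germ U ξ (h.mem_open U.isOpen hxU) e := by
    intro ξ h
    have h1 := congrArg (L.presheaf.stalkSpecializes h) hφ.symm
    rw [stalkSpecializes_smul, TopCat.Presheaf.germ_stalkSpecializes_apply, TopCat.Presheaf.germ_stalkSpecializes_apply] at h1
    exact h1
  have hcontains : ∀ {ξ : X} (h : ξ ⤳ x), φ ∈ (CycDivLib.primeOf h).asIdeal → ξ = x := by
    intro ξ h hmem
    by_contra hne
    have h2 := hZ ξ (by
      rw [hcoord h]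
      exact Submodule.smul_mem_smul (show X.presheaf.stalkSpecializes h φ ∈ _ from hmem) Submodule.mem_top)
    have h3 := (hX.2.2 ξ x h hne).1
    omega
  have hdrop : ∀ {ξ : X}, ξ ⤳ x → ξ ≠ x → δ ξ = k + 1 := fun {ξ} h hne => by
    have := (hX.2.2 ξ x h hne).1
    have := hdim ξ
    omega
  rw [length_quot_eq_finsum hX (fun ξ h hne => by rw [hdrop h hne, hd]) hcontains (fun a ha => ?_)
    (fun ξ => Cyc.secDivFun δ L ξ (Submodule.Quotient.mk ((L.presheaf.germ ⊤ ξ trivial) s)) x) (fun ξ h hd' => ?_)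
    (fun ξ h => secDivFun_eq_zero_of_not (fun h' => h h'.1) _)]
  · refine finsum_congr fun ξ => ?_
    rw [hsub, hd]
  · refine hreg x hd (a₂ := 0) ?_
    show a • L.presheaf.germ ⊤ x trivial s = (0 : X.presheaf.stalk x) • _
    rw [← hφ, smul_smul, zero_smul, mul_comm, ha, zero_smul]
  · rw [secDivFun_eq_divFun hX he hxU (h.mem_open U.isOpen hxU) ((congrArg Submodule.Quotient.mk (hcoord h)).trans
      (Submodule.Quotient.mk_smul _ _ _)), Cyc.divFun, dif_pos ⟨h, hd'⟩]
    rfl

end CycC1Lib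

end
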