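import Mathlib
import Groth.Prelude.Def_C1
import Groth.Agent.CycC1Lib.Zero
import Groth.Agent.CycC1Lib.Push
import Groth.Agent.CycPushLib.Curve
import Groth.Agent.DetDegLib.Main
import Groth.Agent.HurwitzLib.Fiber
import Groth.Agent.CatLib.Univ
import Groth.Agent.JacDimLib.Inherit

/-!
# The degree of an invertible module on a proper one-dimensional scheme
-/

set_option autoImplicit false
set_option linter.style.haveILetI false
set_option linter.unusedSectionVars false

universe u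

open AlgebraicGeometry CategoryTheory IsLocalRing Opposite

noncomputable section

namespace CycC1Lib

variable {k : Type u} [Field k]

theorem isSetup_field : Cyc.IsSetup (Spec (CommRingCat.of k)) (fun _ => 0) := by
  refine ⟨inferInstance, fun y => ?_, fun a b _ hne => absurd (Subsingleton.elim a b) hne⟩
  have hk : CAlg.IsUniversallyCatenary k :=
    CatLib.isUniversallyCatenary_of_isCMRing CatLib.isCMRing_of_isRegularRing
  let A : CommRingCat.{u} := (Spec.structureSheaf k).presheaf.stalk y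
  haveI : IsLocalization.AtPrime A y.asIdeal := StructureSheaf.IsLocalization.to_stalk k y
  have hsurj : Function.Surjective (algebraMap k A) :=
    IsField.localization_map_bijective (M := y.asIdeal.primeCompl)
      (fun h => h (Ideal.zero_mem _)) (Field.toIsField k) |>.2
  haveI : Algebra.FiniteType k A := Algebra.FiniteType.of_surjective (Algebra.ofId k A) hsurj
  exact CatLib.isUniversallyCatenary_of_finiteType k A hk

variable {X : Scheme.{u}} [X.Over (Spec (CommRingCat.of k))]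

theorem residueFieldMap_finite_of_isClosed [LocallyOfFiniteType (X ↘ Spec (CommRingCat.of k))] {x : X}
    (hx : IsClosed ({x} : Set X)) : ((X ↘ Spec (CommRingCat.of k)).residueFieldMap x).hom.Finite := by
  let p := X ↘ Spec (CommRingCat.of k)
  let ι₀ : k →+* (Spec (CommRingCat.of k)).residueField (p x) :=
    ((Scheme.ΓSpecIso (CommRingCat.of k)).inv ≫ (Spec (CommRingCat.of k)).Γevaluation (p x)).hom
  have h : (p.residueFieldMap x).hom.comp ι₀ = Curv2.resMap k X x :=
    RingHom.ext fun c => Scheme.Γevaluation_naturality_apply p x _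
  have hf : (Curv2.resMap k X x).Finite := HurwitzLib.finite_residueField hx
  exact RingHom.Finite.of_comp_finite (h ▸ hf)

theorem delta_eq_zero_of_isClosed [LocallyOfFiniteType (X ↘ Spec (CommRingCat.of k))] {δ : X → ℤ}
    (hδ : Cyc.DeltaCompat (X ↘ Spec (CommRingCat.of k)) δ (fun _ => 0)) {x : X} (hx : IsClosed ({x} : Set X)) :
    δ x = 0 := by
  obtain ⟨n, hn, hn'⟩ := hδ x
  letI := ((X ↘ Spec (CommRingCat.of k)).residueFieldMap x).hom.toAlgebra
  haveI : Module.Finite ((Spec (CommRingCat.of k)).residueField ((X ↘ Spec (CommRingCat.of k)) x)) (X.residueField x) :=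
    residueFieldMap_finite_of_isClosed hx
  have h0 : Algebra.trdeg ((Spec (CommRingCat.of k)).residueField ((X ↘ Spec (CommRingCat.of k)) x))
      (X.residueField x) = 0 := trdeg_eq_zero
  rw [h0, eq_comm, Nat.cast_eq_zero] at hn
  rw [hn', hn]
  rfl

/-- The residue degree over the base field. -/
theorem residueDegree_eq_resDeg (x : X) :
    ((X ↘ Spec (CommRingCat.of k)).residueDegree x) =
      (letI : Algebra k (X.presheaf.stalk x) := Curv2.stalkAlgebra k X x
       DetDegLib.resDeg k (X.presheaf.stalk x)).toNat := by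
  let p := X ↘ Spec (CommRingCat.of k)
  letI : Algebra k (X.presheaf.stalk x) := Curv2.stalkAlgebra k X x
  letI := Curv2.resAlgebra k X x
  have e : (X.presheaf.stalk x ⧸ IsLocalRing.maximalIdeal (X.presheaf.stalk x)) ≃ₗ[k] X.residueField x :=
    { toFun := id
      map_add' := fun _ _ => rfl
      map_smul' := fun c z => by
        obtain ⟨z, rfl⟩ := Ideal.Quotient.mk_surjective z
        exact (map_mul (X.residue x).hom (Curv2.stalkMap k X x c) z)
      invFun := id
      left_inv := fun _ => rfl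
      right_inv := fun _ => rfl }
  rw [DetDegLib.resDeg, e.length_eq, Module.length_eq_rank, Cardinal.toNat_toENat,
    show Cardinal.toNat (Module.rank k (X.residueField x)) = Module.finrank k (X.residueField x) from rfl]
  let ι₀ : k →+* (Spec (CommRingCat.of k)).residueField (p x) :=
    ((Scheme.ΓSpecIso (CommRingCat.of k)).inv ≫ (Spec (CommRingCat.of k)).Γevaluation (p x)).hom
  have hb : Function.Bijective ι₀ := by
    refine ⟨ι₀.injective, ?_⟩
    let y : Spec (CommRingCat.of k) := p x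
    let hT := isAffineOpen_top (Spec (CommRingCat.of k))
    letI := (Spec (CommRingCat.of k)).presheaf.algebra_section_stalk (⟨y, trivial⟩ : (⊤ : (Spec (CommRingCat.of k)).Opens))
    haveI := hT.isLocalization_stalk ⟨y, trivial⟩
    intro z
    obtain ⟨φ, rfl⟩ := (Spec (CommRingCat.of k)).residue_surjective y z
    obtain ⟨a, s, rfl⟩ := IsLocalization.exists_mk'_eq (hT.primeIdealOf ⟨y, trivial⟩).asIdeal.primeCompl φ
    let j := Scheme.ΓSpecIso (CommRingCat.of k)
    have hs : j.hom s ≠ 0 := fun h => s.2 (by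
      have := congrArg j.inv h
      rw [map_zero, Iso.hom_inv_id_apply] at this
      rw [this]
      exact zero_mem _)
    refine ⟨j.hom a / j.hom s, ?_⟩
    have hev : ∀ b : Γ(Spec (CommRingCat.of k), ⊤), ι₀ (j.hom b) = (Spec (CommRingCat.of k)).residue y
        (algebraMap Γ(Spec (CommRingCat.of k), ⊤) _ b) := fun b => by
      show (Spec (CommRingCat.of k)).Γevaluation (p x) (j.inv (j.hom b)) = _
      rw [Iso.hom_inv_id_apply]
      rfl
    rw [map_div₀, hev, hev, div_eq_iff, ← map_mul, IsLocalization.mk'_spec]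
    exact fun h => hs (ι₀.injective (by rw [hev, map_zero]; exact h))
  rw [Scheme.Hom.residueDegree]
  letI := (p.residueFieldMap x).hom.toAlgebra
  refine Algebra.finrank_eq_of_equiv_equiv (RingEquiv.ofBijective ι₀ hb).symm (RingEquiv.refl _) ?_
  refine RingHom.ext fun r => ?_
  obtain ⟨c, rfl⟩ := (RingEquiv.ofBijective ι₀ hb).surjective r
  change Curv2.resMap k X x ((RingEquiv.ofBijective ι₀ hb).symm (RingEquiv.ofBijective ι₀ hb c)) =
    p.residueFieldMap x (ι₀ c)
  rw [RingEquiv.symm_apply_apply]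
  exact (Scheme.Γevaluation_naturality_apply p x _).symm

/-- The degree is the degree of the first Chern class capped with the fundamental cycle. -/
theorem deg_eq_finsum_c1Cap [IsProper (X ↘ Spec (CommRingCat.of k))] (hdim : topologicalKrullDim X ≤ 1) {δ : X → ℤ}
    (hδ : Cyc.DeltaCompat (X ↘ Spec (CommRingCat.of k)) δ (fun _ => 0)) {L : X.Modules} (hL : PicF.IsInvertible L)
    (s : (ξ : X) → Cyc.secFibre L ξ) (hs : ∀ ξ, s ξ ≠ 0) :
    Curv2.deg k X L 1 = ∑ᶠ x : X, ((X ↘ Spec (CommRingCat.of k)).residueDegree x : ℤ) *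
      Cyc.c1CapFun δ L (Cyc.subschemeFun δ 1 (𝟙 X)) s x := by
  classical
  let p := X ↘ Spec (CommRingCat.of k)
  haveI := CurvLib.isNoetherian k (X := X)
  haveI : X.IsSeparated := ⟨by rw [← Limits.terminal.comp_from (X ↘ Spec (CommRingCat.of k))]; infer_instance⟩
  haveI : Coh.IsQCoh (Coh.structureModule X) := QCohLib.isQCoh_unit
  have hS0 : Cyc.IsSetup (Spec (CommRingCat.of k)) (fun _ => 0) := isSetup_field
  have hX : Cyc.IsSetup X δ := ⟨inferInstance, fun x =>
    JacDimLib.isUniversallyCatenary_stalk_of_lft p x (hS0.2.1 _), CycLimLib.isDimFun_of_deltaCompat p hS0 hδ⟩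
  have hE : FlatMod.IsFinLocFreeOfRank 1 L := fun x => by
    obtain ⟨U, hU, ⟨a⟩⟩ := hL x
    exact ⟨U, hU, ⟨a ≪≫ (Limits.coproductUniqueIso fun _ : Fin 1 => Coh.structureModule (↑U)).symm⟩⟩
  obtain ⟨U, e₁, he₁, hass, hT, hTd⟩ := DetDegLib.exists_setup (k := k) hE hdim
  let e : Γ(L, U.1) := e₁ 0
  have hee : e₁ = fun _ => e := funext fun i => congrArg e₁ (Subsingleton.elim i 0)
  have he : ∀ (y : X) (hy : y ∈ U.1), AmpleLib.GenAt L e hy := fun y hy =>
    (DetDegLib.frameAt_one_iff e hy).1 (hee ▸ he₁ y hy)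
  have heU : AmpleLib.GenOn L e := TwistLib.genOn_of_genAt he
  -- dimensions
  have hpts : ∀ ξ : X, ∃ c : X, ξ ⤳ c ∧ IsClosed ({c} : Set X) := fun ξ => by
    obtain ⟨c, hc, hc'⟩ := IsClosed.exists_closed_singleton (isClosed_closure (s := ({ξ} : Set X)))
      ⟨ξ, subset_closure rfl⟩
    exact ⟨c, specializes_iff_mem_closure.mpr hc, hc'⟩
  have hδ1 : ∀ ξ : X, δ ξ ≤ 1 := fun ξ => by
    obtain ⟨c, hξc, hc⟩ := hpts ξ
    obtain ⟨m, hm⟩ := EquidimLib.exists_dimBetween_eq_nat hξc
    have h1 := CycLimLib.delta_eq_add hX hξc hm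
    have h2 := delta_eq_zero_of_isClosed hδ hc
    haveI := CurveAmpLib.krullDimLE_stalk hdim c
    have h3 : (m : WithBot ℕ∞) ≤ 1 := hm ▸ (EquidimLib.dimBetween_le_stalk ξ c).trans (Ring.krullDimLE_iff.1 inferInstance)
    have h4 : m ≤ 1 := by exact_mod_cast h3
    omega
  have hδ0 : ∀ ξ : X, 0 ≤ δ ξ := fun ξ => by
    obtain ⟨n, -, hn⟩ := hδ ξ
    simp only [zero_add] at hn
    omega
  have hA1 : ∀ ξ : X, δ ξ = 1 → Curv2.IsWeakAssPoint (Coh.structureModule X) ξ := fun ξ hξ => by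
    refine AssPointLib.weak_of_maximal ?_ fun y _ hy => ?_
    · rw [IntMultLib.support_structureModule']
      exact Set.mem_univ ξ
    · by_contra hne
      have h := (hX.2.2 y ξ hy hne).1
      have := hδ1 y
      omega
  have hAfin : {ξ : X | δ ξ = 1}.Finite :=
    (AssPointLib.finite_assPoints (DevissLib.isCoh_structureModule X).2 ⊤ isCompact_univ).subset
      fun ξ hξ => ⟨trivial, hA1 ξ hξ⟩
  let A := hAfin.toFinset
  have hAU : ∀ ξ, δ ξ = 1 → ξ ∈ U.1 := fun ξ hξ => hass ξ (hA1 ξ hξ)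
  let len : X → ℤ := fun ξ => ((Module.length (X.presheaf.stalk ξ) (X.presheaf.stalk ξ)).toNat : ℤ)
  have hsub : ∀ ξ, Cyc.subschemeFun δ 1 (𝟙 X) ξ = if δ ξ = 1 then len ξ else 0 := by
    intro ξ
    simp only [Cyc.subschemeFun]
    refine if_congr Iff.rfl ?_ rfl
    exact finsum_cond_eq_left (f := len)
  have hcap : ∀ (t : (ξ : X) → Cyc.secFibre L ξ) (x : X),
      Cyc.c1CapFun δ L (Cyc.subschemeFun δ 1 (𝟙 X)) t x = ∑ ξ ∈ A, len ξ * Cyc.secDivFun δ L ξ (t ξ) x := by
    intro t x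
    rw [c1CapFun_eq_sum (S := A) fun ξ h _ => hAfin.mem_toFinset.2 (by
      by_contra hne
      exact h ((hsub ξ).trans (if_neg hne)))]
    exact Finset.sum_congr rfl fun ξ hξ => by rw [hsub, if_pos (show δ ξ = 1 from hAfin.mem_toFinset.1 hξ)]
  -- the rational sections given by the frame
  let s₀ : (ξ : X) → Cyc.secFibre L ξ := fun ξ =>
    if h : ξ ∈ U.1 then fib L (L.presheaf.germ U.1 ξ h e) else s ξ
  have hs₀ : ∀ ξ, s₀ ξ ≠ 0 := fun ξ h => by
    simp only [s₀] at h
    split_ifs at h with hξ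
    · have h1 := (fib_smul_eq_zero_iff (he ξ hξ) 1).1 (by rw [one_smul]; exact h)
      rw [map_one] at h1
      exact one_ne_zero h1
    · exact hs ξ h
  have hs₀U : ∀ x ∈ U.1, ∀ ξ, δ ξ = 1 → Cyc.secDivFun δ L ξ (s₀ ξ) x = 0 := by
    intro x hx ξ hξ
    have h1 : s₀ ξ = (1 : X.presheaf.stalk ξ) • fib L (L.presheaf.germ U.1 ξ (hAU ξ hξ) e) := by
      rw [one_smul]
      exact dif_pos (hAU ξ hξ)
    rw [secDivFun_eq_divFun hX heU hx (hAU ξ hξ) h1, map_one, Cyc.divFun]
    split_ifs with h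
    · have h2 := CycDivLib.ordAt_mul h.1 (CycPushLib.dimBetween_le_one_of_drop hX h.1 h.2)
        (one_ne_zero' (X.residueField ξ)) (one_ne_zero' (X.residueField ξ))
      rw [mul_one] at h2
      omega
    · rfl
  choose g hg hgx using fun ξ => exists_secDivFun_eq_add hL hX (hs₀ ξ) (hs ξ)
  -- the degree of a principal divisor vanishes
  have hB0 : ∀ ξ, (Function.support (Cyc.divFun δ ξ (g ξ))).Finite := fun ξ =>
    (LocallyFiniteSupport.finite_inter_support_of_isCompact (Function.locallyFinsupp.locallyFiniteSupport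
      (CycPushLib.divCyc hX ξ (hg ξ))) isCompact_univ).subset fun x hx => ⟨trivial, hx⟩
  have hdeg0 : ∀ ξ, δ ξ = 1 → ∑ᶠ x : X, (p.residueDegree x : ℤ) * Cyc.divFun δ ξ (g ξ) x = 0 := by
    intro ξ hξ
    have h := CycPushLib.pushSum_divFun hX hS0 p hδ ξ (hg ξ) (p ξ)
    rw [if_neg (by omega), show p ⁻¹' {p ξ} = Set.univ from Set.eq_univ_of_forall fun z => Subsingleton.elim _ _,
      finsum_mem_univ] at h
    refine Eq.trans (finsum_congr fun x => ?_) h
    rw [AlgebraicCycle.mapCoeff]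
    split_ifs with h'
    · ring
    · have : Cyc.divFun δ ξ (g ξ) x = 0 := by
        rw [Cyc.divFun, dif_neg]
        rintro ⟨-, hh⟩
        exact h' (by omega)
      rw [this, mul_zero, zero_mul]
  let B := hT.toFinset ∪ A.biUnion fun ξ => (hB0 ξ).toFinset
  have hBsupp : ∀ ξ ∈ A, ∀ x, Cyc.divFun δ ξ (g ξ) x ≠ 0 → x ∈ B := fun ξ hξ x hx =>
    Finset.mem_union_right _ (Finset.mem_biUnion.2 ⟨ξ, hξ, (hB0 ξ).mem_toFinset.2 hx⟩)
  have hs₀supp : ∀ x, x ∉ hT.toFinset → ∀ ξ ∈ A, Cyc.secDivFun δ L ξ (s₀ ξ) x = 0 := fun x hx ξ hξ =>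
    hs₀U x (by_contra fun h => hx (hT.mem_toFinset.2 h)) ξ (hAfin.mem_toFinset.1 hξ)
  have hrhs : ∑ᶠ x : X, (p.residueDegree x : ℤ) * Cyc.c1CapFun δ L (Cyc.subschemeFun δ 1 (𝟙 X)) s x =
      ∑ x ∈ hT.toFinset, (p.residueDegree x : ℤ) * ∑ ξ ∈ A, len ξ * Cyc.secDivFun δ L ξ (s₀ ξ) x := by
    rw [finsum_eq_sum_of_support_subset _ (s := B) fun x hx => ?_]
    swap
    · rw [Finset.mem_coe]
      by_contra hxB
      refine hx ?_
      show (p.residueDegree x : ℤ) * _ = 0
      rw [hcap, Finset.sum_eq_zero fun ξ hξ => ?_, mul_zero]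
      rw [hgx, hs₀supp x (fun h => hxB (Finset.mem_union_left _ h)) ξ hξ,
        not_not.1 fun h => hxB (hBsupp ξ hξ x h), add_zero, mul_zero]
    simp only [hcap, hgx, mul_add, Finset.sum_add_distrib]
    have h0 : ∑ x ∈ B, (p.residueDegree x : ℤ) * ∑ ξ ∈ A, len ξ * Cyc.divFun δ ξ (g ξ) x = 0 := by
      simp only [Finset.mul_sum]
      rw [Finset.sum_comm]
      refine Finset.sum_eq_zero fun ξ hξ => ?_
      simp only [mul_left_comm _ (len ξ)]
      rw [← Finset.mul_sum, ← finsum_eq_sum_of_support_subset _ (s := B) fun x hx =>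
        hBsupp ξ hξ x (right_ne_zero_of_mul hx), hdeg0 ξ (hAfin.mem_toFinset.1 hξ), mul_zero]
    rw [h0, zero_add]
    refine (Finset.sum_subset Finset.subset_union_left fun x _ hx => ?_).symm
    rw [Finset.sum_eq_zero fun ξ hξ => by rw [hs₀supp x hx ξ hξ, mul_zero], mul_zero]
  -- local data
  have hdat : ∀ x : X, ∃ (f G : X.presheaf.stalk x), f ∈ nonZeroDivisors _ ∧ G ∈ nonZeroDivisors _ ∧
      (∃ w : Fin 1 → (DevissLib.St x).obj L,
        Function.Bijective (fun c : Fin 1 → X.presheaf.stalk x => ∑ i, c i • w i) ∧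
        Function.Injective ((DevissLib.St x).map (DetDegLib.eta U.1 L)).hom ∧
        f • DevissLib.gm (DetDegLib.Pu U.1 L) x (show x ∈ (⊤ : X.Opens) from trivial) (DetDegLib.eP e) =
          G • ((DevissLib.St x).map (DetDegLib.eta U.1 L)).hom (w 0)) ∧
      ∃ (V : X.Opens) (b : Γ(L, V)) (hxV : x ∈ V), AmpleLib.GenOn L b ∧
        ∀ (ξ : X) (h : ξ ⤳ x) (hξ : ξ ∈ U.1),
          X.presheaf.stalkSpecializes h f • L.presheaf.germ U.1 ξ hξ e =
            X.presheaf.stalkSpecializes h G • L.presheaf.germ V ξ (h.mem_open V.isOpen hxV) b := by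
    intro x
    obtain ⟨V, hxV, b₁, hb₁⟩ := DetDegLib.exists_good_affine (k := k) hE x
    let b : Γ(L, V.1) := b₁ 0
    have hbb : b₁ = fun _ => b := funext fun i => congrArg b₁ (Subsingleton.elim i 0)
    have hb : ∀ (y : X) (hy : y ∈ V.1), AmpleLib.GenAt L b hy := fun y hy =>
      (DetDegLib.frameAt_one_iff b hy).1 (hbb ▸ hb₁ y hy)
    obtain ⟨g, hg, hgU⟩ := DetDegLib.exists_nzd V.2 U.1 fun y _ hy => hass y hy
    let W : X.Opens := V.1 ⊓ U.1
    have hW : IsAffineOpen W := V.2.inf U.2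
    have hgW : X.basicOpen g ≤ W := le_inf (X.basicOpen_le g) hgU
    have hWV : W ≤ V.1 := inf_le_left
    have hWU : W ≤ U.1 := inf_le_right
    obtain ⟨c, hc⟩ := ((TwistLib.genOn_of_genAt hb) W hWV).2 (AmpleLib.res L hWU e)
    dsimp only at hc
    obtain ⟨N, t, ht⟩ := DetDegLib.exists_lift (M := Coh.structureModule X) V.2 hW hWV g hgW c
    let H : Γ(X, V.1) := t
    have hH : X.presheaf.map (homOfLE hWV).op H = (X.presheaf.map (homOfLE hWV).op g) ^ N * c := ht
    have hcu : IsUnit c := by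
      obtain ⟨c', hc'⟩ := (heU W hWU).2 (AmpleLib.res L hWV b)
      dsimp only at hc'
      refine IsUnit.of_mul_eq_one c' (((TwistLib.genOn_of_genAt hb) W hWV).1 ?_)
      show (c * c') • AmpleLib.res L hWV b = (1 : Γ(X, W)) • AmpleLib.res L hWV b
      rw [one_smul, mul_comm, mul_smul, hc, hc']
    have hHd : H ∈ nonZeroDivisors Γ(X, V.1) := by
      refine mem_nonZeroDivisors_iff_right.mpr fun a ha => ?_
      let ρ : Γ(X, V.1) →+* Γ(X, W) := (X.presheaf.map (homOfLE hWV).op).hom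
      have h2 := congrArg ρ ha
      rw [map_mul, map_zero, show ρ H = ρ g ^ N * c from hH, ← mul_assoc] at h2
      have h3 : a * g ^ N = 0 := DetDegLib.res_injective V.2 hWV hg hgW (by
        show ρ (a * g ^ N) = ρ 0
        rw [map_mul, map_pow, map_zero]
        exact hcu.mul_left_eq_zero.mp h2)
      exact mem_nonZeroDivisors_iff_right.mp (pow_mem hg N) a h3
    have hz : X.presheaf.map (homOfLE hWV).op (g ^ N) • L.presheaf.map (homOfLE hWU).op e =
        L.presheaf.map (homOfLE hWV).op (H • b) := by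
      rw [QCohLib.map_smul', hH, map_pow, mul_smul]
      exact congrArg (_ • ·) hc.symm
    refine ⟨X.presheaf.germ V.1 x hxV (g ^ N), X.presheaf.germ V.1 x hxV H,
      DetDegLib.germ_nzd V.2 hxV (pow_mem hg N), DetDegLib.germ_nzd V.2 hxV hHd,
      ⟨fun _ => DevissLib.gm L x hxV b, (DetDegLib.frameAt_one_iff b hxV).mpr (hb x hxV),
        DetDegLib.eta_injective (n := 1) V.2 (fun _ => b)
          (fun y hy => (DetDegLib.frameAt_one_iff b hy).mpr (hb y hy)) hg hgU hxV, ?_⟩,
      V.1, b, hxV, TwistLib.genOn_of_genAt hb, fun ξ h hξ => ?_⟩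
    · refine (DetDegLib.gm_rel hxV (g ^ N) e (H • b) hz).trans ?_
      rw [DevissLib.gm_smul, map_smul]
    · have hξV : ξ ∈ V.1 := h.mem_open V.1.isOpen hxV
      have h1 := congrArg (L.presheaf.germ W ξ ⟨hξV, hξ⟩) hz
      rw [AmpleLib.germ_smul, TopCat.Presheaf.germ_res_apply, TopCat.Presheaf.germ_res_apply,
        TopCat.Presheaf.germ_res_apply, AmpleLib.germ_smul] at h1
      rw [TopCat.Presheaf.germ_stalkSpecializes_apply, TopCat.Presheaf.germ_stalkSpecializes_apply]
      exact h1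
  choose f G hf hG hw V b hxV hbV hrel using hdat
  have hcoh : Coh.IsCoh L := CurvLib.isCoh_of_isInvertible hL
  have heu := DetDegLib.euler_frame (n := 1) k hdim hcoh (fun _ => e) hT hTd
    (fun y hy => (DetDegLib.frameAt_one_iff e hy).mpr (he y hy))
    f (fun x => Matrix.of fun _ _ => G x) fun x _ => by
      obtain ⟨w, hw1, hw2, hw3⟩ := hw x
      refine ⟨w, hw1, hf x, by rw [Matrix.det_fin_one]; exact hG x, hw2, fun j => ?_⟩
      rw [Fin.sum_univ_one]
      exact hw3
  rw [hrhs, Curv2.deg, heu]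
  refine Finset.sum_congr rfl fun x hx => ?_
  have hxT : x ∉ U.1 := hT.mem_toFinset.1 hx
  have hx0 : δ x = 0 := by
    have := hδ1 x
    have := hδ0 x
    have : δ x ≠ 1 := fun h => hxT (hAU x h)
    omega
  simp only [Matrix.det_fin_one, Matrix.of_apply, pow_one, DetDegLib.degTerm]
  rw [← residueDegree_eq_resDeg]
  refine congrArg (_ * ·) ?_
  have hdrop : ∀ ξ : X, ξ ⤳ x → ξ ≠ x → δ ξ = δ x + 1 := fun ξ h hne => by
    have := (hX.2.2 ξ x h hne).1
    have := hδ1 ξ
    omega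
  have hmin : ∀ (ξ : X) (h : ξ ⤳ x), ξ ≠ x → (CycDivLib.primeOf h).asIdeal ∈ minimalPrimes (X.presheaf.stalk x) := by
    intro ξ h hne
    refine ⟨⟨(CycDivLib.primeOf h).2, bot_le⟩, fun Q hQ hle => ?_⟩
    let q : PrimeSpectrum (X.presheaf.stalk x) := ⟨Q, hQ.1⟩
    have hsp : EquidimLib.stalkPt x q ⤳ ξ := by
      have := EquidimLib.specializes_stalkPt (x := x) (show q ≤ CycDivLib.primeOf h from hle)
      rwa [CycDivLib.stalkPt_primeOf] at this
    have heq : EquidimLib.stalkPt x q = ξ := by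
      by_contra hne'
      have := (hX.2.2 _ _ hsp hne').1
      have := hδ1 (EquidimLib.stalkPt x q)
      have := hdrop ξ h hne
      omega
    have : q = CycDivLib.primeOf h := EquidimLib.stalkPt_injective x (heq.trans (CycDivLib.stalkPt_primeOf h).symm)
    exact (congrArg PrimeSpectrum.asIdeal this).ge
  have hnot : ∀ {φ : X.presheaf.stalk x}, φ ∈ nonZeroDivisors _ → ∀ {ξ : X} (h : ξ ⤳ x),
      φ ∈ (CycDivLib.primeOf h).asIdeal → ξ = x := by
    intro φ hφ ξ h hmem
    by_contra hne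
    exact Set.disjoint_left.1 (Ideal.disjoint_nonZeroDivisors_of_mem_minimalPrimes (hmin ξ h hne)) hmem hφ
  let F : X.presheaf.stalk x → X → ℤ := fun φ ξ =>
    if h : ξ ⤳ x ∧ δ x + 1 = δ ξ then Cyc.ordAt x ξ h.1 (Cyc.specMap x ξ h.1 φ) else 0
  have hlen : ∀ φ ∈ nonZeroDivisors (X.presheaf.stalk x),
      ((Ring.ord (X.presheaf.stalk x) φ).toNat : ℤ) = ∑ ξ ∈ A, len ξ * F φ ξ := by
    intro φ hφ
    rw [Ring.ord, length_quot_eq_finsum hX hdrop (hnot hφ) (fun a ha => mem_nonZeroDivisors_iff_left.1 hφ a ha) (F φ)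
      (fun ξ h hd => dif_pos ⟨h, hd⟩) (fun ξ h => dif_neg fun h' => h h'.1),
      finsum_eq_sum_of_support_subset _ (s := A) fun ξ hξ => ?_]
    · exact Finset.sum_congr rfl fun ξ hξ => by rw [if_pos (by rw [hx0]; exact hAfin.mem_toFinset.1 hξ)]
    · have h1 := left_ne_zero_of_mul hξ
      split_ifs at h1 with h2
      · exact hAfin.mem_toFinset.2 (by rw [hx0] at h2; exact h2)
      · exact absurd rfl h1
  rw [hlen _ (hG x), hlen _ (hf x), ← Finset.sum_sub_distrib]
  refine Finset.sum_congr rfl fun ξ hξ => ?_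
  have hξ1 : δ ξ = 1 := hAfin.mem_toFinset.1 hξ
  rw [← mul_sub]
  refine congrArg (_ * ·) ?_
  by_cases h : ξ ⤳ x
  swap
  · rw [secDivFun_eq_zero_of_not fun h' => h h'.1]
    simp only [F, dif_neg fun h' : ξ ⤳ x ∧ δ x + 1 = δ ξ => h h'.1, sub_zero]
  have hd : δ x + 1 = δ ξ := by omega
  have hne : ξ ≠ x := fun h' => by rw [h'] at hξ1; omega
  have hd' := CycPushLib.dimBetween_le_one_of_drop hX h hd
  have hnz : ∀ {φ : X.presheaf.stalk x}, φ ∈ nonZeroDivisors _ → Cyc.specMap x ξ h φ ≠ 0 := fun hφ h0 =>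
    hne (hnot hφ h ((CycDivLib.specMap_eq_zero_iff _ _).1 h0))
  obtain ⟨φ, hφ⟩ := ((hbV x).genAt (h.mem_open (V x).isOpen (hxV x))).2 (L.presheaf.germ U.1 ξ (hAU ξ hξ1) e)
  dsimp only at hφ
  have hmul : X.presheaf.stalkSpecializes h (f x) * φ = X.presheaf.stalkSpecializes h (G x) :=
    ((hbV x).genAt (h.mem_open (V x).isOpen (hxV x))).1 (by
      show (X.presheaf.stalkSpecializes h (f x) * φ) • _ = _ • _
      rw [mul_smul, hφ]
      exact hrel x ξ h (hAU ξ hξ1))
  have hres : Cyc.specMap x ξ h (f x) * X.residue ξ φ = Cyc.specMap x ξ h (G x) :=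
    ((map_mul (X.residue ξ).hom _ φ).symm).trans (congrArg (X.residue ξ) hmul)
  have hs' : s₀ ξ = φ • fib L (L.presheaf.germ (V x) ξ (h.mem_open (V x).isOpen (hxV x)) (b x)) := by
    show dite _ _ _ = _
    rw [dif_pos (hAU ξ hξ1), fib, ← hφ]
    exact Submodule.Quotient.mk_smul _ _ _
  rw [secDivFun_eq_divFun hX (hbV x) (hxV x) _ hs']
  simp only [F, Cyc.divFun, dif_pos (show ξ ⤳ x ∧ δ x + 1 = δ ξ from ⟨h, hd⟩)]
  rw [← hres, CycDivLib.ordAt_mul h hd' (hnz (hf x)) fun h0 => hnz (hG x) (by rw [← hres, h0, mul_zero])]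
  ring

end CycC1Lib

end
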